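import Cfsg.Agent.Lib.Transfer.Product.Fusion
import Cfsg.Agent.Lib.Block.SecondMain
import Cfsg.Agent.Lib.Block.Height
import Cfsg.Agent.Lib.Char.Constituent

/-!
# Sums over the sections meeting the centralizer of `a`
-/

open scoped ComplexConjugate

set_option linter.unusedSectionVars false
set_option linter.style.haveILetI false

namespace Cfsg.Agent.ProdFus

open Cfsg Cfsg.Agent.Block

universe u

variable {G : Type u} [Group G] [Finite G]

/-- The 2-part of an element. -/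
noncomputable def tp (g : G) : G :=
  (haveI : Fact (Nat.Prime 2) := ⟨Nat.prime_two⟩; exists_pPart_zpowers (p := 2) g).choose

theorem tp_spec (g : G) : ∃ n : G, tp g * n = g ∧ Commute (tp g) n ∧
    (∃ k : ℕ, orderOf (tp g) = 2 ^ k) ∧ ¬ 2 ∣ orderOf n ∧ tp g ∈ Subgroup.zpowers g ∧
      n ∈ Subgroup.zpowers g :=
  (haveI : Fact (Nat.Prime 2) := ⟨Nat.prime_two⟩; exists_pPart_zpowers (p := 2) g).choose_spec

theorem tp_mul {z n : G} (hz : ∃ k : ℕ, orderOf z = 2 ^ k) (hn : ¬ 2 ∣ orderOf n)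
    (hc : Commute z n) : tp (z * n) = z := by
  haveI : Fact (Nat.Prime 2) := ⟨Nat.prime_two⟩
  obtain ⟨m, hm, hcm, hzm, hm2, -, -⟩ := tp_spec (z * n)
  exact pPart_unique (p := 2) ⟨m, hm, hcm, hzm, hm2⟩ ⟨n, rfl, hc, hz, hn⟩

theorem tp_self {z : G} (hz : ∃ k : ℕ, orderOf z = 2 ^ k) : tp z = z := by
  have := tp_mul (n := (1 : G)) hz (by simp) (Commute.one_right z)
  rwa [mul_one] at this

theorem tp_conj (g c : G) : tp (c * g * c⁻¹) = c * tp g * c⁻¹ := by
  obtain ⟨n, hn, hc, ⟨k, hk⟩, hn2, -, -⟩ := tp_spec g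
  conv_lhs => rw [← hn, show c * (tp g * n) * c⁻¹ = c * tp g * c⁻¹ * (c * n * c⁻¹) by group]
  refine tp_mul ⟨k, ?_⟩ ?_ (hc.map (MulAut.conj c).toMonoidHom)
  · rwa [show c * tp g * c⁻¹ = MulAut.conj c (tp g) from rfl, MulEquiv.orderOf_eq]
  · rwa [show c * n * c⁻¹ = MulAut.conj c n from rfl, MulEquiv.orderOf_eq]

open Classical in
/-- Sums over the group split along the 2-parts. -/
theorem sum_eq_sum_sections [Fintype G] [DecidableEq G] (Φ : G → ℂ) (Q : G → Prop)
    [DecidablePred Q] (hQ : ∀ z, Q z → ∃ k : ℕ, orderOf z = 2 ^ k) :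
    ∑ g : G, (if Q (tp g) then Φ g else 0) =
      ∑ z ∈ Finset.univ.filter Q, ∑ n : G,
        if Commute n z ∧ ¬ 2 ∣ orderOf n then Φ (z * n) else 0 := by
  classical
  rw [← Finset.sum_filter]
  have hmaps : ∀ g ∈ Finset.univ.filter (fun g => Q (tp g)), tp g ∈ Finset.univ.filter Q :=
    fun g hg => Finset.mem_filter.2 ⟨Finset.mem_univ _, (Finset.mem_filter.1 hg).2⟩
  rw [← Finset.sum_fiberwise_of_maps_to hmaps Φ]
  refine Finset.sum_congr rfl fun z hz => ?_
  have hzQ := (Finset.mem_filter.1 hz).2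
  rw [← Finset.sum_filter]
  symm
  refine Finset.sum_bij (fun n _ => z * n) (fun n hn => ?_) (fun n _ m _ e => mul_left_cancel e)
    (fun g hg => ?_) fun n _ => rfl
  · obtain ⟨-, hc, hn2⟩ := Finset.mem_filter.1 hn
    have e := tp_mul (hQ z hzQ) hn2 hc.symm
    simp only [Finset.mem_filter, Finset.mem_univ, true_and]
    exact ⟨by rw [e]; exact hzQ, e⟩
  · simp only [Finset.mem_filter, Finset.mem_univ, true_and] at hg
    obtain ⟨n, hn, hc, -, hn2, -, -⟩ := tp_spec g
    rw [hg.2] at hn hc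
    exact ⟨n, Finset.mem_filter.2 ⟨Finset.mem_univ _, hc.symm, hn2⟩, hn⟩

/-- The product map of two subgroups has constant fibres. -/
theorem sum_product (M N : Subgroup G) [Fintype G] [Fintype M] [Fintype N]
    [DecidablePred fun g : G => ∃ m ∈ M, ∃ n ∈ N, g = m * n] (Ψ : G → ℂ) :
    ∑ p : M × N, Ψ ((p.1 : G) * (p.2 : G)) = (Nat.card (M ⊓ N : Subgroup G) : ℂ) *
      ∑ g ∈ Finset.univ.filter (fun g : G => ∃ m ∈ M, ∃ n ∈ N, g = m * n), Ψ g := by
  classical
  have hmaps : ∀ p ∈ (Finset.univ : Finset (M × N)), (p.1 : G) * (p.2 : G) ∈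
      Finset.univ.filter (fun g : G => ∃ m ∈ M, ∃ n ∈ N, g = m * n) := fun p _ =>
    Finset.mem_filter.2 ⟨Finset.mem_univ _, _, p.1.2, _, p.2.2, rfl⟩
  rw [← Finset.sum_fiberwise_of_maps_to hmaps (fun p : M × N => Ψ ((p.1 : G) * (p.2 : G))),
    Finset.mul_sum]
  refine Finset.sum_congr rfl fun g hg => ?_
  obtain ⟨m, hm, n, hn, rfl⟩ := (Finset.mem_filter.1 hg).2
  rw [Finset.sum_congr rfl fun p hp => by rw [(Finset.mem_filter.1 hp).2], Finset.sum_const,
    nsmul_eq_mul]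
  congr 2
  rw [← Nat.card_eq_finsetCard]
  refine Nat.card_congr
    { toFun := fun p => ⟨m⁻¹ * (p.1.1 : G), ?_⟩
      invFun := fun k => ⟨(⟨m * (k : G), mul_mem hm (Subgroup.mem_inf.1 k.2).1⟩,
        ⟨(k : G)⁻¹ * n, mul_mem (inv_mem (Subgroup.mem_inf.1 k.2).2) hn⟩),
        Finset.mem_filter.2 ⟨Finset.mem_univ _, ?_⟩⟩
      left_inv := fun p => ?_
      right_inv := fun k => Subtype.ext (inv_mul_cancel_left m _) }
  · have he := (Finset.mem_filter.1 p.2).2
    refine Subgroup.mem_inf.2 ⟨mul_mem (inv_mem hm) p.1.1.2, ?_⟩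
    rw [show m⁻¹ * (p.1.1 : G) = n * (p.1.2 : G)⁻¹ by
      rw [eq_mul_inv_iff_mul_eq, mul_assoc, he, inv_mul_cancel_left]]
    exact mul_mem hn (inv_mem p.1.2.2)
  · show m * (k : G) * ((k : G)⁻¹ * n) = m * n
    group
  · obtain ⟨⟨x, y⟩, hp⟩ := p
    have he := (Finset.mem_filter.1 hp).2
    refine Subtype.ext (Prod.ext (Subtype.ext (mul_inv_cancel_left m _)) (Subtype.ext ?_))
    show (m⁻¹ * (x : G))⁻¹ * n = (y : G)
    rw [inv_mul_eq_iff_eq_mul, mul_assoc, he, inv_mul_cancel_left]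

variable {M : Ideal AlgInt}

/-- Elements of odd order stay so in a coset of the odd core. -/
theorem odd_mul_core {H : Type u} [Group H] [Finite H] {n o : H} (hn : ¬ 2 ∣ orderOf n)
    (ho : o ∈ pPrimeCore 2 H) : ¬ 2 ∣ orderOf (n * o) := by
  haveI : Fact (Nat.Prime 2) := ⟨Nat.prime_two⟩
  haveI := Grp.pPrimeCore_isNormal (p := 2) (G := H)
  intro hd
  set w := (n * o) ^ (orderOf (n * o) / 2)
  have hw : orderOf w = 2 := orderOf_pow_orderOf_div (orderOf_pos _).ne' hd
  set f := QuotientGroup.mk' (pPrimeCore 2 H)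
  have hf : f (n * o) = f n := by
    rw [map_mul, show f o = 1 from (QuotientGroup.eq_one_iff o).2 ho, mul_one]
  have h1 : orderOf (f w) ∣ orderOf n := by
    rw [map_pow, hf]
    exact (orderOf_pow_dvd _).trans (orderOf_map_dvd f n)
  have h2 : orderOf (f w) ∣ 2 := (orderOf_map_dvd f w).trans (dvd_of_eq hw)
  have h3 : orderOf (f w) = 1 := Nat.eq_one_of_dvd_coprimes
    (Nat.prime_two.coprime_iff_not_dvd.2 hn) h2 h1
  have hwO : w ∈ pPrimeCore 2 H := (QuotientGroup.eq_one_iff w).1 (orderOf_eq_one_iff.1 h3)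
  have hdv := orderOf_dvd_natCard (⟨w, hwO⟩ : pPrimeCore 2 H)
  rw [Subgroup.orderOf_mk, hw] at hdv
  exact Grp.pPrimeCore_not_dvd (p := 2) (G := H) hdv

/-- In the principal block the odd core of the centralizer of the 2-part is invisible. -/
theorem value_shift [Fintype G] (hM : IsPModular 2 M) {z : G}
    (hz : ∃ k : ℕ, orderOf z = 2 ^ k) {n o : Subgroup.centralizer ({z} : Set G)}
    (hn : ¬ 2 ∣ orderOf n) (ho : o ∈ pPrimeCore 2 (Subgroup.centralizer ({z} : Set G)))
    {χ : IrrCharacter G} (hχ : χ ∈ principalBlock M G) :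
    (χ : G → ℂ) (z * ((n : G) * (o : G))) = (χ : G → ℂ) (z * (n : G)) := by
  classical
  haveI : Fact (Nat.Prime 2) := ⟨Nat.prime_two⟩
  cases nonempty_fintype (Subgroup.centralizer ({z} : Set G))
  haveI := Grp.pPrimeCore_isNormal (p := 2) (G := Subgroup.centralizer ({z} : Set G))
  have hK := Grp.pPrimeCore_not_dvd (p := 2) (G := Subgroup.centralizer ({z} : Set G))
  have e1 := value_eq_sum_inducing hM hz (isPBlock_principalBlock (G := G)) (odd_mul_core hn ho) χ
  have e2 := value_eq_sum_inducing hM hz (isPBlock_principalBlock (G := G)) hn χ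
  rw [if_pos hχ] at e1 e2
  rw [Subgroup.coe_mul] at e1
  rw [← e1, ← e2]
  refine Finset.sum_congr rfl fun ξ hξ => ?_
  have hind := (Finset.mem_filter.1 hξ).2
  have hb : ξ ∈ principalBlock M (Subgroup.centralizer ({z} : Set G)) := by
    rw [← (principal_third_main hM ⟨_, hind⟩).1 hind]
    exact mem_blockOf_self hM ξ
  congr 1
  have h1 := Char.char_mul_ker (irr_isChar ξ) (principal_ker_of_coprime hM hK hb ho) n
  rw [← h1, show o * n = o * (n * o) * o⁻¹ by group, irr_classFun ξ]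

open Classical in
/-- Sums over sections see only the principal block. -/
theorem section_zero [Fintype G] [DecidableEq G] (hM : IsPModular 2 M) {z : G}
    (hz : ∃ k : ℕ, orderOf z = 2 ^ k) {χ : IrrCharacter G} (hχ : χ ∉ principalBlock M G) :
    ∑ n : G, (if Commute n z ∧ ¬ 2 ∣ orderOf n then (χ : G → ℂ) (z * n) else 0) = 0 := by
  classical
  haveI : Fact (Nat.Prime 2) := ⟨Nat.prime_two⟩
  cases nonempty_fintype (Subgroup.centralizer ({z} : Set G))
  rw [← Finset.sum_filter]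
  have e : ∑ n ∈ Finset.univ.filter (fun n : G => Commute n z ∧ ¬ 2 ∣ orderOf n),
      (χ : G → ℂ) (z * n) = ∑ n ∈ Finset.univ.filter
        (fun n : Subgroup.centralizer ({z} : Set G) => ¬ 2 ∣ orderOf n),
      (χ : G → ℂ) (z * (n : G)) := by
    symm
    refine Finset.sum_bij (fun n _ => (n : G)) (fun n hn => ?_) (fun n _ m _ e => Subtype.ext e)
      (fun g hg => ?_) fun n _ => rfl
    · exact Finset.mem_filter.2 ⟨Finset.mem_univ _, Subgroup.mem_centralizer_singleton_iff.1 n.2,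
        by rw [Subgroup.orderOf_coe]; exact (Finset.mem_filter.1 hn).2⟩
    · obtain ⟨-, hc, ho⟩ := Finset.mem_filter.1 hg
      exact ⟨⟨g, Subgroup.mem_centralizer_singleton_iff.2 hc.eq⟩,
        Finset.mem_filter.2 ⟨Finset.mem_univ _, by rwa [Subgroup.orderOf_mk]⟩, rfl⟩
  rw [e]
  set b := blockOf M (χ : G → ℂ)
  have hχb : χ ∈ b := mem_blockOf_self hM χ
  have hexp : ∀ n ∈ Finset.univ.filter
      (fun n : Subgroup.centralizer ({z} : Set G) => ¬ 2 ∣ orderOf n),
      (χ : G → ℂ) (z * (n : G)) = ∑ ξ ∈ Finset.univ.filter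
        (fun ξ : IrrCharacter (Subgroup.centralizer ({z} : Set G)) =>
          IsInducedBlock M _ (blockOf M (ξ : Subgroup.centralizer ({z} : Set G) → ℂ)) b),
        classInner (fun c : Subgroup.centralizer ({z} : Set G) => (χ : G → ℂ) (z * (c : G)))
          (ξ : Subgroup.centralizer ({z} : Set G) → ℂ) *
        (ξ : Subgroup.centralizer ({z} : Set G) → ℂ) n := fun n hn => by
    rw [value_eq_sum_inducing hM hz (isPBlock_blockOf (M := M) χ) (Finset.mem_filter.1 hn).2 χ,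
      if_pos hχb]
  rw [Finset.sum_congr rfl hexp, Finset.sum_comm]
  refine Finset.sum_eq_zero fun ξ hξ => ?_
  rw [← Finset.mul_sum]
  have hind := (Finset.mem_filter.1 hξ).2
  have hnot : ¬ SameBlock M ((trivialIrr (Subgroup.centralizer ({z} : Set G)) :
      IrrCharacter (Subgroup.centralizer ({z} : Set G))) : _ → ℂ)
      (ξ : Subgroup.centralizer ({z} : Set G) → ℂ) := by
    intro hs
    have hb : ξ ∈ principalBlock M (Subgroup.centralizer ({z} : Set G)) :=
      pblock_mem_of_sameBlock hM isPBlock_principalBlock (trivial_mem_principalBlock hM) hs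
    have hbb : blockOf M (ξ : Subgroup.centralizer ({z} : Set G) → ℂ) =
        principalBlock M (Subgroup.centralizer ({z} : Set G)) :=
      (pblock_eq_blockOf hM isPBlock_principalBlock hb).symm
    have h1 := (principal_third_main hM ⟨_, hind⟩).2 hbb
    exact hχ (induced_unique hM hind h1 ▸ hχb)
  have h0 := reg_orth hM hnot
  rw [regSum_eq_sum] at h0
  have h1 : ∑ n ∈ Finset.univ.filter
      (fun n : Subgroup.centralizer ({z} : Set G) => ¬ 2 ∣ orderOf n),
      (ξ : Subgroup.centralizer ({z} : Set G) → ℂ) n = 0 := by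
    have h2 := congrArg (starRingEnd ℂ) h0
    rw [map_sum, map_zero] at h2
    rw [← h2]
    exact Finset.sum_congr rfl fun n _ => by
      rw [map_mul, Complex.conj_conj,
        show ((trivialIrr (Subgroup.centralizer ({z} : Set G)) :
          IrrCharacter (Subgroup.centralizer ({z} : Set G))) : _ → ℂ) n = 1 from rfl, map_one,
        one_mul]
  rw [h1, mul_zero]

variable {P : Sylow 2 G} {A B R : Subgroup G} {r s a : G}

/-- A 2-element with first component in `R` up to conjugation by the centralizer of `a`. -/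
def GoodC (R B : Subgroup G) (a z : G) : Prop :=
  ∃ c u v : G, Commute c a ∧ u ∈ R ∧ u ≠ 1 ∧ v ∈ B ∧ z = c * (u * v) * c⁻¹

/-- A 2-element with first component conjugate into `R`. -/
def Good (R B : Subgroup G) (z : G) : Prop :=
  ∃ c u v : G, u ∈ R ∧ u ≠ 1 ∧ v ∈ B ∧ z = c * (u * v) * c⁻¹

section

variable (h : Prod P A B) (D : Dih A R r s a)
include h D

theorem Good.isTwo {z : G} (hz : Good R B z) : ∃ k : ℕ, orderOf z = 2 ^ k := by
  obtain ⟨c, u, v, hu, -, hv, rfl⟩ := hz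
  obtain ⟨k, hk⟩ := h.isPGroup_of_mem (h.mul_mem' (D.le hu) hv)
  exact ⟨k, by rwa [show c * (u * v) * c⁻¹ = MulAut.conj c (u * v) from rfl, MulEquiv.orderOf_eq]⟩

theorem GoodC.commute {z : G} (hz : GoodC R B a z) : Commute a z := by
  obtain ⟨c, u, v, hc, hu, -, hv, rfl⟩ := hz
  have h1 : Commute a (u * v) := (D.conj_fix hu).symm.mul_right (h.comm a (D.le D.a_mem) v hv)
  have := h1.map (MulAut.conj c).toMonoidHom
  simp only [MulEquiv.coe_toMonoidHom, MulAut.conj_apply] at this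
  rwa [mul_inv_eq_iff_eq_mul.2 hc.eq] at this

/-- Conjugate good elements of the centralizer are conjugate in it. -/
theorem GoodC.conj {z z' g : G} (hz : GoodC R B a z) (hz' : GoodC R B a z')
    (e : g * z * g⁻¹ = z') : ∃ d : G, Commute d a ∧ d * z * d⁻¹ = z' := by
  obtain ⟨c, u, v, hc, hu, hu1, hv, rfl⟩ := hz
  obtain ⟨c', u', v', hc', hu', -, hv', rfl⟩ := hz'
  obtain ⟨d, hdu, hdv⟩ := h.split_conj (D.le hu) (D.le hu') hv hv' (g := c'⁻¹ * g * c) (by
    calc c'⁻¹ * g * c * (u * v) * (c'⁻¹ * g * c)⁻¹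
        = c'⁻¹ * (g * (c * (u * v) * c⁻¹) * g⁻¹) * c' := by group
      _ = _ := by rw [e]; group)
  have hda : Commute d a := mul_inv_eq_iff_eq_mul.1 (D.fix_a h hu hu' hu1 hdu)
  refine ⟨c' * d * c⁻¹, (hc'.mul_left hda).mul_left hc.inv_left, ?_⟩
  calc c' * d * c⁻¹ * (c * (u * v) * c⁻¹) * (c' * d * c⁻¹)⁻¹
      = c' * ((d * u * d⁻¹) * (d * v * d⁻¹)) * c'⁻¹ := by group
    _ = _ := by rw [hdu, hdv]

theorem GoodC.isolated {z g : G} (hz : GoodC R B a z) (hg : g * z * g⁻¹ = z)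
    (hcomm : Commute a (g * a * g⁻¹)) : g * a * g⁻¹ = a := by
  obtain ⟨c, u, v, hc, hu, hu1, hv, rfl⟩ := hz
  have hca : c⁻¹ * a * c = a := by rw [mul_assoc, ← hc.eq, inv_mul_cancel_left]
  have e : c⁻¹ * g * c * a * (c⁻¹ * g * c)⁻¹ = c⁻¹ * (g * a * g⁻¹) * c := by
    calc c⁻¹ * g * c * a * (c⁻¹ * g * c)⁻¹ = c⁻¹ * (g * (c * a * c⁻¹) * g⁻¹) * c := by group
      _ = _ := by rw [mul_inv_eq_iff_eq_mul.2 hc.eq]
  have h1 := D.isolated_a h hu hu1 hv (g := c⁻¹ * g * c) (by
    calc c⁻¹ * g * c * (u * v) * (c⁻¹ * g * c)⁻¹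
        = c⁻¹ * (g * (c * (u * v) * c⁻¹) * g⁻¹) * c := by group
      _ = _ := by rw [hg]; group) (by
    rw [e]
    have := hcomm.map (MulAut.conj c⁻¹).toMonoidHom
    simpa [hca] using this)
  rw [e] at h1
  have := congrArg (fun x => c * x * c⁻¹) h1
  simp only [mul_inv_eq_iff_eq_mul.2 hc.eq] at this
  simpa [mul_assoc] using this

theorem GoodC.good {z : G} (hz : GoodC R B a z) : Good R B z := by
  obtain ⟨c, u, v, -, hu, hu1, hv, rfl⟩ := hz
  exact ⟨c, u, v, hu, hu1, hv, rfl⟩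

/-- The averaging identity. -/
theorem sum_sections_eq [Fintype G] [DecidableEq G] [DecidablePred (Good R B)]
    [DecidablePred (GoodC R B a)] [DecidablePred fun g : G => Commute g a]
    (Φ : G → ℂ) (hΦ : ∀ g c : G, Φ (c * g * c⁻¹) = Φ g)
    (hinv : ∀ z, Good R B z → ∀ n o : Subgroup.centralizer ({z} : Set G), ¬ 2 ∣ orderOf n →
      o ∈ pPrimeCore 2 (Subgroup.centralizer ({z} : Set G)) →
        Φ (z * ((n : G) * (o : G))) = Φ (z * (n : G))) :
    (Nat.card (Subgroup.centralizer ({a} : Set G)) : ℂ) *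
        ∑ g : G, (if Good R B (tp g) then Φ g else 0) =
      (Nat.card G : ℂ) *
        ∑ g : G, (if GoodC R B a (tp g) ∧ Commute g a then Φ g else 0) := by
  classical
  haveI : Fact (Nat.Prime 2) := ⟨Nat.prime_two⟩
  let C : Subgroup G := Subgroup.centralizer ({a} : Set G)
  let Hz : G → Subgroup G := fun z => Subgroup.centralizer ({z} : Set G)
  let S : G → ℂ := fun z => ∑ n : G, if Commute n z ∧ ¬ 2 ∣ orderOf n then Φ (z * n) else 0
  let T : G → ℂ := fun z => ∑ n : G,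
    if Commute n z ∧ ¬ 2 ∣ orderOf n then (if Commute n a then Φ (z * n) else 0) else 0
  have hL : ∑ g : G, (if Good R B (tp g) then Φ g else 0) =
      ∑ z ∈ Finset.univ.filter (Good R B), S z :=
    sum_eq_sum_sections Φ _ fun z hz => Good.isTwo h D hz
  have hR : ∑ g : G, (if GoodC R B a (tp g) ∧ Commute g a then Φ g else 0) =
      ∑ z ∈ Finset.univ.filter (GoodC R B a), T z := by
    simp only [ite_and]
    rw [sum_eq_sum_sections (fun g => if Commute g a then Φ g else 0) _ fun z hz =>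
      (hz.good h D).isTwo h D]
    refine Finset.sum_congr rfl fun z hz => Finset.sum_congr rfl fun n _ => ?_
    have hza := (Finset.mem_filter.1 hz).2.commute h D
    have hiff : Commute (z * n) a ↔ Commute n a :=
      ⟨fun e => by simpa using hza.symm.inv_left.mul_left e, fun e => hza.symm.mul_left e⟩
    exact if_congr Iff.rfl (if_congr hiff rfl rfl) rfl
  -- one section
  have hsec : ∀ z, GoodC R B a z →
      S z * (Nat.card (Hz z ⊓ C : Subgroup G) : ℂ) = T z * (Nat.card (Hz z) : ℂ) := by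
    intro z hz
    have hz2 := (hz.good h D).isTwo h D
    have haz := hz.commute h D
    have haH : a ∈ Hz z := Subgroup.mem_centralizer_singleton_iff.2 haz.eq
    let O : Subgroup G := (pPrimeCore 2 (Hz z)).map (Hz z).subtype
    let M₁ : Subgroup G := Hz z ⊓ C
    have hfac : ∀ g : G, (∃ m ∈ M₁, ∃ o ∈ O, g = m * o) ↔ g ∈ Hz z := by
      intro g
      constructor
      · rintro ⟨m, hm, o, ho, rfl⟩
        exact mul_mem (Subgroup.mem_inf.1 hm).1 (Subgroup.map_subtype_le _ ho)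
      · intro hg
        obtain ⟨o, ho, m, hm, e⟩ := Prod.centralizer_factor h haz D.a_ord
          (fun g hg hc => hz.isolated h D hg hc) ⟨g, hg⟩
        exact ⟨m, Subgroup.mem_inf.2 ⟨m.2, Subgroup.mem_centralizer_singleton_iff.2 hm.eq⟩, o,
          ⟨o, ho, rfl⟩, congrArg (fun q : Hz z => (q : G)) e⟩
    have key : ∀ Ψ : G → ℂ, ∑ p : M₁ × O, Ψ ((p.1 : G) * (p.2 : G)) =
        (Nat.card (M₁ ⊓ O : Subgroup G) : ℂ) *
          ∑ g : G, (if g ∈ Hz z then Ψ g else 0) := by
      intro Ψ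
      rw [sum_product M₁ O Ψ, ← Finset.sum_filter, Finset.filter_congr fun g _ => hfac g]
    have k1 := key fun _ => 1
    rw [Finset.sum_const, nsmul_eq_mul, mul_one, Finset.card_univ, Fintype.card_prod,
      Nat.cast_mul, ← Nat.card_eq_fintype_card, ← Nat.card_eq_fintype_card, Finset.sum_boole,
      show (Finset.univ.filter fun g : G => g ∈ Hz z).card = Nat.card (Hz z) by
        rw [← Nat.card_eq_finsetCard]
        exact Nat.card_congr (Equiv.subtypeEquivRight fun g => by simp)] at k1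
    have k2 := key fun g => if ¬ 2 ∣ orderOf g then Φ (z * g) else 0
    have e2 : ∑ g : G, (if g ∈ Hz z then (if ¬ 2 ∣ orderOf g then Φ (z * g) else 0) else 0) =
        S z := Finset.sum_congr rfl fun g _ => by
      rw [← ite_and]
      exact if_congr (and_congr_left' Subgroup.mem_centralizer_singleton_iff) rfl rfl
    rw [e2] at k2
    have e1 : ∑ p : M₁ × O, (if ¬ 2 ∣ orderOf ((p.1 : G) * (p.2 : G)) then
        Φ (z * ((p.1 : G) * (p.2 : G))) else 0) = (Nat.card O : ℂ) * T z := by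
      have hterm : ∀ (m : M₁) (o : O), (if ¬ 2 ∣ orderOf ((m : G) * (o : G)) then
          Φ (z * ((m : G) * (o : G))) else 0) =
          if ¬ 2 ∣ orderOf (m : G) then Φ (z * (m : G)) else 0 := by
        rintro ⟨m, hm⟩ ⟨o, o', ho, rfl⟩
        let m' : Hz z := ⟨m, (Subgroup.mem_inf.1 hm).1⟩
        have hiff : ¬ 2 ∣ orderOf (m * (o' : G)) ↔ ¬ 2 ∣ orderOf m := by
          rw [show m * (o' : G) = ((m' * o' : Hz z) : G) from rfl, Subgroup.orderOf_coe,
            show orderOf m = orderOf m' from (Subgroup.orderOf_mk m _).symm]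
          refine ⟨fun e => ?_, fun e => odd_mul_core e ho⟩
          have := odd_mul_core e (inv_mem ho)
          rwa [mul_inv_cancel_right] at this
        show (if ¬ 2 ∣ orderOf (m * (o' : G)) then Φ (z * (m * (o' : G))) else 0) =
          if ¬ 2 ∣ orderOf m then Φ (z * m) else 0
        by_cases hm2 : 2 ∣ orderOf m
        · rw [if_neg (not_not.2 hm2), if_neg (fun e => hiff.1 e hm2)]
        · rw [if_pos hm2]
          rw [if_pos (hiff.2 hm2)]
          exact hinv z (hz.good h D) m' o' (by rwa [Subgroup.orderOf_mk]) ho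
      rw [Fintype.sum_prod_type]
      simp only [hterm, Finset.sum_const, Finset.card_univ, ← Nat.card_eq_fintype_card,
        nsmul_eq_mul, ← Finset.mul_sum]
      congr 1
      simp only [T]
      rw [← Finset.sum_subtype (Finset.univ.filter (· ∈ M₁)) (fun x => by simp)
        (fun g => if ¬ 2 ∣ orderOf g then Φ (z * g) else 0), Finset.sum_filter]
      refine Finset.sum_congr rfl fun g _ => ?_
      simp only [← ite_and]
      refine if_congr ?_ rfl rfl
      simp only [M₁, Hz, C, Subgroup.mem_inf, Subgroup.mem_centralizer_singleton_iff,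
        commute_iff_eq]
      tauto
    rw [e1] at k2
    have hK0 : (Nat.card (M₁ ⊓ O : Subgroup G) : ℂ) ≠ 0 := Nat.cast_ne_zero.2 Nat.card_pos.ne'
    have hO0 : (Nat.card O : ℂ) ≠ 0 := Nat.cast_ne_zero.2 Nat.card_pos.ne'
    refine mul_left_cancel₀ hK0 ?_
    show _ * (S z * (Nat.card M₁ : ℂ)) = _
    linear_combination (-(Nat.card M₁ : ℂ)) * k2 + T z * k1
  -- all the sections
  rw [hL, hR]
  have hSc : ∀ z c : G, S (c * z * c⁻¹) = S z := by
    intro z c
    simp only [S]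
    symm
    refine Fintype.sum_equiv (MulAut.conj c).toEquiv _ _ fun n => ?_
    simp only [MulEquiv.toEquiv_eq_coe, EquivLike.coe_coe, MulAut.conj_apply]
    have e1 : Commute (c * n * c⁻¹) (c * z * c⁻¹) ↔ Commute n z :=
      ⟨fun e => by
        have := e.map (MulAut.conj c⁻¹).toMonoidHom
        simpa [mul_assoc] using this, fun e => e.map (MulAut.conj c).toMonoidHom⟩
    have e2 : orderOf (c * n * c⁻¹) = orderOf n := MulEquiv.orderOf_eq (MulAut.conj c) n
    simp only [e1, e2]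
    split_ifs
    · rw [show c * z * c⁻¹ * (c * n * c⁻¹) = c * (z * n) * c⁻¹ by group, hΦ]
    · rfl
  let wt : G → ℂ := fun z => (Nat.card (Hz z ⊓ C : Subgroup G) : ℂ) / (Nat.card (Hz z) : ℂ)
  have hTw : ∀ z, GoodC R B a z → T z = wt z * S z := fun z hz => by
    have h0 : (Nat.card (Hz z) : ℂ) ≠ 0 := Nat.cast_ne_zero.2 Nat.card_pos.ne'
    simp only [wt]
    field_simp
    linear_combination -(hsec z hz)
  have hdouble : ∑ z ∈ Finset.univ.filter (GoodC R B a), (Nat.card G : ℂ) * T z =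
      ∑ p ∈ (Finset.univ : Finset G) ×ˢ Finset.univ.filter (GoodC R B a),
        wt p.2 * S (p.1 * p.2 * p.1⁻¹) := by
    rw [Finset.sum_product, Finset.sum_comm]
    refine Finset.sum_congr rfl fun z hz => ?_
    simp only [hSc, Finset.sum_const, Finset.card_univ, ← Nat.card_eq_fintype_card, nsmul_eq_mul]
    rw [hTw z (Finset.mem_filter.1 hz).2]
  rw [Finset.mul_sum, Finset.mul_sum, hdouble]
  have hmaps : ∀ p ∈ (Finset.univ : Finset G) ×ˢ Finset.univ.filter (GoodC R B a),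
      p.1 * p.2 * p.1⁻¹ ∈ Finset.univ.filter (Good R B) := by
    intro p hp
    obtain ⟨c, u, v, -, hu, hu1, hv, e⟩ := (Finset.mem_filter.1 (Finset.mem_product.1 hp).2).2
    exact Finset.mem_filter.2 ⟨Finset.mem_univ _, p.1 * c, u, v, hu, hu1, hv, by rw [e]; group⟩
  rw [← Finset.sum_fiberwise_of_maps_to hmaps
    (fun p : G × G => wt p.2 * S (p.1 * p.2 * p.1⁻¹))]
  refine Finset.sum_congr rfl fun z' hz' => ?_
  obtain ⟨c₀, u, v, hu, hu1, hv, rfl⟩ := (Finset.mem_filter.1 hz').2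
  set z₀ := u * v with hz₀def
  have hz₀ : GoodC R B a z₀ := ⟨1, u, v, Commute.one_left a, hu, hu1, hv, by simp [hz₀def]⟩
  let M₂ : Subgroup G := Hz z₀
  have hwt : ∀ p ∈ ((Finset.univ : Finset G) ×ˢ Finset.univ.filter (GoodC R B a)).filter
      (fun p => p.1 * p.2 * p.1⁻¹ = c₀ * z₀ * c₀⁻¹),
      ∃ m ∈ M₂, ∃ k ∈ C, c₀⁻¹ * p.1 = m * k ∧ k * p.2 * k⁻¹ = z₀ := by
    intro p hp
    obtain ⟨hp1, hp2⟩ := Finset.mem_filter.1 hp
    have hpz := (Finset.mem_filter.1 (Finset.mem_product.1 hp1).2).2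
    obtain ⟨d, hd, hde⟩ := hpz.conj h D hz₀ (g := c₀⁻¹ * p.1) (by
      calc c₀⁻¹ * p.1 * p.2 * (c₀⁻¹ * p.1)⁻¹ = c₀⁻¹ * (p.1 * p.2 * p.1⁻¹) * c₀ := by group
        _ = _ := by rw [hp2]; group)
    refine ⟨c₀⁻¹ * p.1 * d⁻¹, ?_, d, Subgroup.mem_centralizer_singleton_iff.2 hd.eq, by group, hde⟩
    refine Subgroup.mem_centralizer_singleton_iff.2 (mul_inv_eq_iff_eq_mul.1 ?_)
    calc c₀⁻¹ * p.1 * d⁻¹ * z₀ * (c₀⁻¹ * p.1 * d⁻¹)⁻¹
        = c₀⁻¹ * (p.1 * (d⁻¹ * z₀ * d) * p.1⁻¹) * c₀ := by group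
      _ = c₀⁻¹ * (p.1 * p.2 * p.1⁻¹) * c₀ := by rw [← hde]; group
      _ = _ := by rw [hp2]; group
  have hconst : ∀ p ∈ ((Finset.univ : Finset G) ×ˢ Finset.univ.filter (GoodC R B a)).filter
      (fun p => p.1 * p.2 * p.1⁻¹ = c₀ * z₀ * c₀⁻¹),
      wt p.2 * S (p.1 * p.2 * p.1⁻¹) = wt z₀ * S (c₀ * z₀ * c₀⁻¹) := by
    intro p hp
    rw [(Finset.mem_filter.1 hp).2]
    congr 1
    obtain ⟨-, -, k, hk, -, hkp⟩ := hwt p hp
    have hk' : Commute k a := Subgroup.mem_centralizer_singleton_iff.1 hk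
    have hmap1 : (Hz p.2).map (MulAut.conj k).toMonoidHom = Hz z₀ := by
      ext x
      constructor
      · rintro ⟨y, hy, rfl⟩
        rw [← hkp]
        exact Subgroup.mem_centralizer_singleton_iff.2
          ((show Commute y p.2 from Subgroup.mem_centralizer_singleton_iff.1 hy).map
            (MulAut.conj k).toMonoidHom).eq
      · intro hx
        refine ⟨k⁻¹ * x * k, Subgroup.mem_centralizer_singleton_iff.2 ?_, by simp [mul_assoc]⟩
        have := (show Commute x z₀ from Subgroup.mem_centralizer_singleton_iff.1 hx).map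
          (MulAut.conj k⁻¹).toMonoidHom
        simpa [← hkp, mul_assoc] using this.eq
    have hmap2 : C.map (MulAut.conj k).toMonoidHom = C := by
      ext x
      constructor
      · rintro ⟨y, hy, rfl⟩
        exact mul_mem (mul_mem hk hy) (inv_mem hk)
      · intro hx
        exact ⟨k⁻¹ * x * k, mul_mem (mul_mem (inv_mem hk) hx) hk, by simp [mul_assoc]⟩
    have hc1 : Nat.card (Hz p.2) = Nat.card (Hz z₀) := by
      rw [← hmap1, Subgroup.card_map_of_injective (MulAut.conj k).injective]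
    have hc2 : Nat.card (Hz p.2 ⊓ C : Subgroup G) = Nat.card (Hz z₀ ⊓ C : Subgroup G) := by
      rw [← hmap1]
      conv_rhs => rw [← hmap2, ← Subgroup.map_inf _ _ _ (MulAut.conj k).injective]
      rw [Subgroup.card_map_of_injective (MulAut.conj k).injective]
    simp only [wt, hc1, hc2]
  rw [Finset.sum_congr rfl hconst, Finset.sum_const, nsmul_eq_mul]
  -- the fibre
  have hcard : ((((Finset.univ : Finset G) ×ˢ Finset.univ.filter (GoodC R B a)).filter
      (fun p => p.1 * p.2 * p.1⁻¹ = c₀ * z₀ * c₀⁻¹)).card : ℂ) *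
      (Nat.card (M₂ ⊓ C : Subgroup G) : ℂ) = (Nat.card M₂ : ℂ) * (Nat.card C : ℂ) := by
    have k := sum_product M₂ C (fun _ => (1 : ℂ))
    simp only [Finset.sum_const, Finset.card_univ, nsmul_eq_mul, mul_one,
      ← Nat.card_eq_fintype_card, Nat.card_prod, Nat.cast_mul] at k
    rw [k, mul_comm]
    congr 2
    refine (Finset.card_bij (fun g _ => (c₀ * g, g⁻¹ * z₀ * g)) (fun g hg => ?_)
      (fun g _ g' _ e => mul_left_cancel (congrArg (fun q : G × G => q.1) e :))
      fun p hp => ?_).symm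
    · obtain ⟨-, m, hm, k, hk, rfl⟩ := Finset.mem_filter.1 hg
      have hm' : m⁻¹ * z₀ * m = z₀ := by
        rw [mul_assoc, ← Subgroup.mem_centralizer_singleton_iff.1 hm, inv_mul_cancel_left]
      refine Finset.mem_filter.2 ⟨Finset.mem_product.2 ⟨Finset.mem_univ _, Finset.mem_filter.2
        ⟨Finset.mem_univ _, ?_⟩⟩, by group⟩
      refine ⟨k⁻¹, u, v, (show Commute k a from
        Subgroup.mem_centralizer_singleton_iff.1 hk).inv_left, hu, hu1, hv, ?_⟩
      calc (m * k)⁻¹ * z₀ * (m * k) = k⁻¹ * (m⁻¹ * z₀ * m) * k := by group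
        _ = _ := by rw [hm', inv_inv]
    · obtain ⟨m, hm, k, hk, e, -⟩ := hwt p hp
      refine ⟨c₀⁻¹ * p.1, Finset.mem_filter.2 ⟨Finset.mem_univ _, m, hm, k, hk, e⟩, ?_⟩
      have hp2 := (Finset.mem_filter.1 hp).2
      refine Prod.ext (mul_inv_cancel_left c₀ p.1) ?_
      calc (c₀⁻¹ * p.1)⁻¹ * z₀ * (c₀⁻¹ * p.1) = p.1⁻¹ * (c₀ * z₀ * c₀⁻¹) * p.1 := by group
        _ = p.2 := by rw [← hp2]; group
  have h0 : (Nat.card (M₂ ⊓ C : Subgroup G) : ℂ) ≠ 0 := Nat.cast_ne_zero.2 Nat.card_pos.ne'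
  have h1 : (Nat.card M₂ : ℂ) ≠ 0 := Nat.cast_ne_zero.2 Nat.card_pos.ne'
  simp only [wt]
  show _ = _ * ((Nat.card (M₂ ⊓ C : Subgroup G) : ℂ) / (Nat.card M₂ : ℂ) * _)
  field_simp
  linear_combination (S (c₀ * z₀ * c₀⁻¹)) * (-hcard)

end

end Cfsg.Agent.ProdFus
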