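import Cfsg.Agent.Lib.Transfer.Product.Main

/-!
# Product fusion with dihedral factors
-/

set_option linter.unusedSectionVars false
set_option linter.style.haveILetI false

namespace Cfsg.Agent.ProdFus

open Cfsg

universe u

variable {G : Type u} [Group G] [Finite G]

/-- A dihedral 2-subgroup as data. -/
theorem exists_dih {A : Subgroup G} (h2 : IsPGroup 2 A) {m : ℕ} (hm : 2 ≤ m)
    (e : A ≃* DihedralGroup m) :
    ∃ (R : Subgroup G) (r s a : G), Dih A R r s a ∧
      A ≤ Subgroup.closure {b | b ∈ A ∧ orderOf b = 2} := by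
  haveI : Fact (Nat.Prime 2) := ⟨Nat.prime_two⟩
  haveI : NeZero m := ⟨by omega⟩
  set r : G := ((e.symm (DihedralGroup.r 1) : A) : G) with hr
  set s : G := ((e.symm (DihedralGroup.sr 0) : A) : G) with hs
  have hcoe : ∀ x : DihedralGroup m, orderOf ((e.symm x : A) : G) = orderOf x := fun x => by
    rw [Subgroup.orderOf_coe, MulEquiv.orderOf_eq]
  have hrord : orderOf r = m := by rw [hr, hcoe, DihedralGroup.orderOf_r_one]
  have hsord : orderOf s = 2 := by rw [hs, hcoe, DihedralGroup.orderOf_sr]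
  have hri : ∀ i : ZMod m, ((e.symm (DihedralGroup.r i) : A) : G) = r ^ i.val := fun i => by
    rw [hr, ← SubgroupClass.coe_pow, ← map_pow, DihedralGroup.r_one_pow, ZMod.natCast_zmod_val]
  have hsr : ∀ i : ZMod m, ((e.symm (DihedralGroup.sr i) : A) : G) = s * r ^ i.val := fun i => by
    rw [hs, ← hri, ← Subgroup.coe_mul, ← map_mul, DihedralGroup.sr_mul_r, zero_add]
  have hss : s * s = 1 := by rw [← pow_two, ← hsord, pow_orderOf_eq_one]
  have hsinv : ∀ x ∈ Subgroup.zpowers r, s * x * s⁻¹ = x⁻¹ := by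
    intro x hx
    obtain ⟨i, rfl⟩ := Subgroup.mem_zpowers_iff.1 hx
    have h1 : s * r * s⁻¹ = r⁻¹ := by
      rw [hr, hs, ← Subgroup.coe_mul, ← Subgroup.coe_inv, ← Subgroup.coe_mul, ← Subgroup.coe_inv,
        ← map_inv, ← map_mul, ← map_mul, ← map_inv, DihedralGroup.sr_mul_r, DihedralGroup.inv_sr,
        DihedralGroup.sr_mul_sr, DihedralGroup.inv_r]
      simp
    rw [← conj_zpow, h1, inv_zpow]
  have hnot : s ∉ Subgroup.zpowers r := by
    intro hx
    obtain ⟨i, hi⟩ := Subgroup.mem_zpowers_iff.1 hx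
    have h0 : (e.symm (DihedralGroup.r 1)) ^ i = e.symm (DihedralGroup.sr 0) :=
      Subtype.ext (by simpa [SubgroupClass.coe_zpow] using hi)
    rw [← map_zpow, e.symm.injective.eq_iff, DihedralGroup.r_one_zpow] at h0
    cases h0
  obtain ⟨k, hk⟩ := IsPGroup.iff_orderOf.1 h2 ⟨r, (e.symm (DihedralGroup.r 1)).2⟩
  rw [Subgroup.orderOf_mk, hrord] at hk
  have hd : 2 ∣ orderOf r := by
    rw [hrord, hk]
    rcases k with _ | k
    · simp at hk; omega
    · exact dvd_pow_self 2 (by omega)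
  refine ⟨Subgroup.zpowers r, r, s, r ^ (orderOf r / 2),
    { gen := rfl
      le := Subgroup.zpowers_le.2 (e.symm (DihedralGroup.r 1)).2
      s_mem := (e.symm (DihedralGroup.sr 0)).2
      s_not := hnot
      s_sq := hss
      inv := hsinv
      cases := fun x hx => ?_
      a_mem := pow_mem (Subgroup.mem_zpowers r) _
      a_ord := orderOf_pow_orderOf_div (orderOf_pos r).ne' hd }, ?_⟩
  · obtain ⟨y, hy⟩ : ∃ y, e.symm y = ⟨x, hx⟩ := ⟨e ⟨x, hx⟩, e.symm_apply_apply _⟩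
    have hxy : x = ((e.symm y : A) : G) := by rw [hy]
    rw [hxy]
    rcases y with i | i
    · exact .inl (hri i ▸ pow_mem (Subgroup.mem_zpowers r) _)
    · refine .inr ?_
      have := hsinv _ (pow_mem (Subgroup.mem_zpowers r) i.val)
      rw [inv_eq_of_mul_eq_one_right hss] at this
      rw [hsr, this]
      exact inv_mem (pow_mem (Subgroup.mem_zpowers r) _)
  · intro x hx
    obtain ⟨y, hy⟩ : ∃ y, e.symm y = ⟨x, hx⟩ := ⟨e ⟨x, hx⟩, e.symm_apply_apply _⟩
    have hxy : x = ((e.symm y : A) : G) := by rw [hy]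
    have hS : ∀ i : ZMod m, ((e.symm (DihedralGroup.sr i) : A) : G) ∈
        Subgroup.closure {b | b ∈ A ∧ orderOf b = 2} := fun i =>
      Subgroup.subset_closure ⟨(e.symm (DihedralGroup.sr i)).2, by rw [hcoe, DihedralGroup.orderOf_sr]⟩
    rw [hxy]
    rcases y with i | i
    · have := mul_mem (hS 0) (hS i)
      rwa [← Subgroup.coe_mul, ← map_mul, DihedralGroup.sr_mul_sr, sub_zero] at this
    · exact hS i

/-- Product fusion with dihedral factors and trivial odd core. -/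
theorem normal_product (hO : Cfsg.oddCore G = ⊥)
    (hO' : ∀ N : Subgroup G, N.Normal → Odd N.index → N = ⊤) {P : Sylow 2 G}
    {S₁ S₂ R₁ R₂ : Subgroup G} {r₁ s₁ a₁ r₂ s₂ a₂ : G} (h : Prod P S₁ S₂)
    (D₁ : Dih S₁ R₁ r₁ s₁ a₁) (D₂ : Dih S₂ R₂ r₂ s₂ a₂)
    (g₁ : S₁ ≤ Subgroup.closure {b | b ∈ S₁ ∧ orderOf b = 2})
    (g₂ : S₂ ≤ Subgroup.closure {b | b ∈ S₂ ∧ orderOf b = 2}) :
    Cfsg.IsInternalDirectProduct (Subgroup.normalClosure (S₁ : Set G))
        (Subgroup.normalClosure (S₂ : Set G)) ⊤ ∧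
      Odd (S₁.relIndex (Subgroup.normalClosure (S₁ : Set G))) ∧
      Odd (S₂.relIndex (Subgroup.normalClosure (S₂ : Set G))) := by
  haveI : Fact (Nat.Prime 2) := ⟨Nat.prime_two⟩
  set N₁ := Subgroup.normalClosure (S₁ : Set G)
  set N₂ := Subgroup.normalClosure (S₂ : Set G)
  have i₁ : (P : Subgroup G) ⊓ N₁ = S₁ := inf_normalClosure h.swap D₂ g₁
  have i₂ : (P : Subgroup G) ⊓ N₂ = S₂ := inf_normalClosure h D₁ g₂
  have hrel : ∀ (S N : Subgroup G) [N.Normal], (P : Subgroup G) ⊓ N = S → Odd (S.relIndex N) := by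
    intro S N _ e
    rw [← e, Subgroup.inf_relIndex_right]
    exact Nat.odd_iff.2 (Nat.two_dvd_ne_zero.1 (Grp.sylow_inf_normal_relIndex P N))
  have hint : N₁ ⊓ N₂ = ⊥ := by
    haveI : (N₁ ⊓ N₂).Normal := Subgroup.normal_inf_normal N₁ N₂
    have hP : (P : Subgroup G) ⊓ (N₁ ⊓ N₂) = ⊥ := by
      rw [eq_bot_iff, ← h.disj]
      exact le_inf ((inf_le_inf_left _ inf_le_left).trans i₁.le)
        ((inf_le_inf_left _ inf_le_right).trans i₂.le)
    have hodd := hrel ⊥ (N₁ ⊓ N₂) hP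
    rw [Subgroup.relIndex_bot_left] at hodd
    rw [eq_bot_iff, ← hO]
    exact Grp.le_pPrimeCore (p := 2) inferInstance (Nat.coprime_two_right.2 hodd)
  have hcomm : ∀ x ∈ N₁, ∀ y ∈ N₂, x * y = y * x := fun x hx y hy =>
    (Subgroup.commute_of_normal_of_disjoint N₁ N₂ Subgroup.normalClosure_normal
      Subgroup.normalClosure_normal (disjoint_iff.2 hint) x y hx hy).eq
  refine ⟨⟨le_top, le_top, hcomm, hint, ?_⟩, hrel _ _ i₁, hrel _ _ i₂⟩
  refine hO' _ (Subgroup.sup_normal N₁ N₂) ?_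
  have hle : (P : Subgroup G) ≤ N₁ ⊔ N₂ := h.sup ▸ sup_le_sup Subgroup.le_normalClosure
    Subgroup.le_normalClosure
  exact Nat.odd_iff.2 (Nat.two_dvd_ne_zero.1 fun hd =>
    P.not_dvd_index (hd.trans (Subgroup.index_dvd_of_le hle)))

end Cfsg.Agent.ProdFus
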