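import Cfsg.Prelude.Def_TwoFusion
import Cfsg.Agent.Lib.Invol.Sylow
import Cfsg.Agent.Lib.Invol.ZStar
import Cfsg.Agent.Lib.Invol.ExtClosedBasic

/-!
# Product fusion in a Sylow 2-subgroup

A Sylow 2-subgroup which is the product of two commuting strongly closed subgroups meeting
trivially: conjugacy is componentwise.
-/

set_option linter.unusedSectionVars false
set_option linter.style.haveILetI false

namespace Cfsg.Agent.ProdFus

open Cfsg

universe u

variable {G : Type u} [Group G] [Finite G]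

/-- The Sylow 2-subgroup is the product of two commuting strongly closed subgroups. -/
structure Prod (P : Sylow 2 G) (A B : Subgroup G) : Prop where
  clA : IsStronglyClosed A (P : Subgroup G)
  clB : IsStronglyClosed B (P : Subgroup G)
  comm : ∀ a ∈ A, ∀ b ∈ B, Commute a b
  disj : A ⊓ B = ⊥
  sup : A ⊔ B = (P : Subgroup G)

/-- `A` is cyclic or dihedral, `R` its cyclic subgroup of index at most two, `s` inverts `R`. -/
structure Dih (A R : Subgroup G) (r s a : G) : Prop where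
  gen : R = Subgroup.zpowers r
  le : R ≤ A
  s_mem : s ∈ A
  s_not : s ∉ R
  s_sq : s * s = 1
  inv : ∀ x ∈ R, s * x * s⁻¹ = x⁻¹
  cases : ∀ x ∈ A, x ∈ R ∨ x * s ∈ R
  a_mem : a ∈ R
  a_ord : orderOf a = 2

variable {P : Sylow 2 G} {A B : Subgroup G}

namespace Prod

variable (h : Prod P A B)
include h

theorem leA : A ≤ (P : Subgroup G) := h.clA.1

theorem leB : B ≤ (P : Subgroup G) := h.clB.1

theorem mul_mem' {u v : G} (hu : u ∈ A) (hv : v ∈ B) : u * v ∈ (P : Subgroup G) :=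
  mul_mem (h.leA hu) (h.leB hv)

theorem split {x : G} (hx : x ∈ (P : Subgroup G)) : ∃ u ∈ A, ∃ v ∈ B, x = u * v := by
  have hn : A ≤ Subgroup.normalizer (B : Set G) := fun a ha => by
    refine Subgroup.mem_normalizer_iff.2 fun b => ⟨fun hb => ?_, fun hb => ?_⟩
    · rwa [(h.comm a ha b hb).eq, mul_inv_cancel_right]
    · have e := (h.comm a ha _ hb).eq
      have : b = a * b * a⁻¹ := mul_left_cancel (a := a) (mul_right_cancel (b := a⁻¹) (by
        rw [e]; group))
      rwa [this]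
  rw [← h.sup] at hx
  obtain ⟨b, hb, a, ha, rfl⟩ := ExtClosed.mem_sup_dec hn hx
  exact ⟨a, ha, b, hb, (h.comm a ha b hb).symm.eq⟩

theorem uniq {u u' v v' : G} (hu : u ∈ A) (hu' : u' ∈ A) (hv : v ∈ B) (hv' : v' ∈ B)
    (e : u * v = u' * v') : u = u' ∧ v = v' := by
  have h1 : u'⁻¹ * u = v' * v⁻¹ := by
    rw [eq_mul_inv_iff_mul_eq, mul_assoc, e, inv_mul_cancel_left]
  have h2 : u'⁻¹ * u ∈ A ⊓ B :=
    Subgroup.mem_inf.2 ⟨mul_mem (inv_mem hu') hu, h1 ▸ mul_mem hv' (inv_mem hv)⟩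
  rw [h.disj, Subgroup.mem_bot, inv_mul_eq_one] at h2
  subst h2
  exact ⟨rfl, mul_left_cancel e⟩

theorem memA {x : G} (hx : x ∈ A) (g : G) (hg : g * x * g⁻¹ ∈ (P : Subgroup G)) :
    g * x * g⁻¹ ∈ A := h.clA.2 x hx g hg

theorem memB {x : G} (hx : x ∈ B) (g : G) (hg : g * x * g⁻¹ ∈ (P : Subgroup G)) :
    g * x * g⁻¹ ∈ B := h.clB.2 x hx g hg

theorem isPGroup_of_mem {x : G} (hx : x ∈ (P : Subgroup G)) : ∃ k : ℕ, orderOf x = 2 ^ k := by
  haveI : Fact (Nat.Prime 2) := ⟨Nat.prime_two⟩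
  obtain ⟨k, hk⟩ := IsPGroup.iff_orderOf.1 P.isPGroup' ⟨x, hx⟩
  exact ⟨k, by rwa [Subgroup.orderOf_mk] at hk⟩

/-- Conjugacy is componentwise. -/
theorem split_conj {u u' v v' g : G} (hu : u ∈ A) (hu' : u' ∈ A) (hv : v ∈ B) (hv' : v' ∈ B)
    (e : g * (u * v) * g⁻¹ = u' * v') :
    ∃ c : G, c * u * c⁻¹ = u' ∧ c * v * c⁻¹ = v' := by
  classical
  haveI : Fact (Nat.Prime 2) := ⟨Nat.prime_two⟩
  set H := Subgroup.centralizer ({u' * v'} : Set G) with hH
  have hu'H : u' ∈ H := Subgroup.mem_centralizer_singleton_iff.2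
    (((Commute.refl u').mul_right (h.comm u' hu' v' hv')).eq)
  have hv'H : v' ∈ H := Subgroup.mem_centralizer_singleton_iff.2
    (((h.comm u' hu' v' hv').symm.mul_right (Commute.refl v')).eq)
  have hguH : g * u * g⁻¹ ∈ H := Subgroup.mem_centralizer_singleton_iff.2 (by
    rw [← e]
    exact (((Commute.refl u).mul_right (h.comm u hu v hv)).map
      (MulAut.conj g).toMonoidHom).eq)
  have hgvH : g * v * g⁻¹ ∈ H := Subgroup.mem_centralizer_singleton_iff.2 (by
    rw [← e]
    exact (((h.comm u hu v hv).symm.mul_right (Commute.refl v)).map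
      (MulAut.conj g).toMonoidHom).eq)
  set Q₁ := (P : Subgroup G).subgroupOf H with hQ₁
  set Q₂ := ((P : Subgroup G).map (MulAut.conj g).toMonoidHom).subgroupOf H with hQ₂
  have hQ₁p : IsPGroup 2 Q₁ := P.isPGroup'.comap_of_injective H.subtype Subtype.val_injective
  have hQ₂p : IsPGroup 2 Q₂ :=
    (P.isPGroup'.map _).comap_of_injective H.subtype Subtype.val_injective
  obtain ⟨R₁, hR₁⟩ := hQ₁p.exists_le_sylow
  obtain ⟨d, hd⟩ := Invol.exists_conj_subset_sylow hQ₂p R₁
  have hRp : IsPGroup 2 ((R₁ : Subgroup H).map H.subtype) := R₁.isPGroup'.map _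
  obtain ⟨k, hk⟩ := Invol.exists_conj_subset_sylow hRp P
  have hkR : ∀ y : H, y ∈ (R₁ : Subgroup H) → k * (y : G) * k⁻¹ ∈ (P : Subgroup G) :=
    fun y hy => hk _ (Subgroup.mem_map_of_mem H.subtype hy)
  have hU' := h.memA hu' k (hkR ⟨u', hu'H⟩ (hR₁ (Subgroup.mem_subgroupOf.2 (h.leA hu'))))
  have hV' := h.memB hv' k (hkR ⟨v', hv'H⟩ (hR₁ (Subgroup.mem_subgroupOf.2 (h.leB hv'))))
  have hU : k * ((d : G) * g) * u * (k * ((d : G) * g))⁻¹ ∈ A := by
    refine h.memA hu _ ?_
    have := hkR (d * ⟨_, hguH⟩ * d⁻¹) (hd ⟨_, hguH⟩ (Subgroup.mem_subgroupOf.2 ⟨u, h.leA hu, by simp⟩))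
    simpa [mul_assoc] using this
  have hV : k * ((d : G) * g) * v * (k * ((d : G) * g))⁻¹ ∈ B := by
    refine h.memB hv _ ?_
    have := hkR (d * ⟨_, hgvH⟩ * d⁻¹) (hd ⟨_, hgvH⟩ (Subgroup.mem_subgroupOf.2 ⟨v, h.leB hv, by simp⟩))
    simpa [mul_assoc] using this
  have hdc : (d : G) * (u' * v') * (d : G)⁻¹ = u' * v' :=
    mul_inv_eq_iff_eq_mul.2 (Subgroup.mem_centralizer_singleton_iff.1 d.2)
  have heq : (k * ((d : G) * g) * u * (k * ((d : G) * g))⁻¹) *
      (k * ((d : G) * g) * v * (k * ((d : G) * g))⁻¹) = (k * u' * k⁻¹) * (k * v' * k⁻¹) := by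
    calc _ = k * ((d : G) * (g * (u * v) * g⁻¹) * (d : G)⁻¹) * k⁻¹ := by group
      _ = k * (u' * v') * k⁻¹ := by rw [e, hdc]
      _ = _ := by group
  obtain ⟨e₁, e₂⟩ := h.uniq hU hU' hV hV' heq
  refine ⟨(d : G) * g, ?_, ?_⟩
  · have := congrArg (fun x => k⁻¹ * x * k) e₁
    simpa [mul_assoc] using this
  · have := congrArg (fun x => k⁻¹ * x * k) e₂
    simpa [mul_assoc] using this

/-- An element with first component conjugate to a central `t` is conjugate to one with first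
component `t`. -/
theorem conj_to_central {u v t : G} (hu : u ∈ A) (hv : v ∈ B) (ht : t ∈ A)
    (htc : ∀ x ∈ A, Commute x t) {c : G} (hc : c * u * c⁻¹ = t) :
    ∃ d : G, ∃ v' ∈ B, d * u * d⁻¹ = t ∧ d * v * d⁻¹ = v' := by
  classical
  haveI : Fact (Nat.Prime 2) := ⟨Nat.prime_two⟩
  set H := Subgroup.centralizer ({t} : Set G)
  have hPH : (P : Subgroup G) ≤ H := fun x hx => by
    obtain ⟨x1, hx1, x2, hx2, rfl⟩ := h.split hx
    exact Subgroup.mem_centralizer_singleton_iff.2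
      ((htc x1 hx1).mul_left (h.comm t ht x2 hx2).symm).eq
  have hwH : c * v * c⁻¹ ∈ H := Subgroup.mem_centralizer_singleton_iff.2 (by
    rw [← hc]
    exact ((h.comm u hu v hv).symm.map (MulAut.conj c).toMonoidHom).eq)
  obtain ⟨k, hk⟩ := h.isPGroup_of_mem (h.leB hv)
  have hW : IsPGroup 2 (Subgroup.zpowers (⟨_, hwH⟩ : H)) := IsPGroup.of_card (n := k) (by
    rw [Nat.card_zpowers, Subgroup.orderOf_mk,
      show c * v * c⁻¹ = MulAut.conj c v from rfl, MulEquiv.orderOf_eq, hk])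
  obtain ⟨m, hm⟩ := Invol.exists_conj_subset_sylow hW (P.subtype hPH)
  have hm' : (m : G) * (c * v * c⁻¹) * (m : G)⁻¹ ∈ (P : Subgroup G) := by
    have := hm _ (Subgroup.mem_zpowers _)
    exact (Subgroup.mem_subgroupOf.1 this)
  refine ⟨(m : G) * c, _, h.memB hv ((m : G) * c) (by simpa [mul_assoc] using hm'), ?_, rfl⟩
  calc (m : G) * c * u * ((m : G) * c)⁻¹ = (m : G) * (c * u * c⁻¹) * (m : G)⁻¹ := by group
    _ = t := by rw [hc]; exact mul_inv_eq_iff_eq_mul.2 (Subgroup.mem_centralizer_singleton_iff.1 m.2)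

/-- The centralizer of the product: a conjugate of an involution `t` commuting with it, in a
common 2-group with the product. -/
theorem exists_move {u v t : G} (hu : u ∈ A) (hv : v ∈ B) (htA : t ∈ A) (ht2 : orderOf t = 2)
    (htu : Commute t u) {g : G} (hg : g * (u * v) * g⁻¹ = u * v)
    (hcomm : Commute t (g * t * g⁻¹)) :
    ∃ k : G, k * t * k⁻¹ ∈ A ∧ k * (g * t * g⁻¹) * k⁻¹ ∈ A ∧
      k * (u * v) * k⁻¹ ∈ (P : Subgroup G) := by
  classical
  haveI : Fact (Nat.Prime 2) := ⟨Nat.prime_two⟩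
  have htz : Commute t (u * v) := htu.mul_right (h.comm t htA v hv)
  have ht'z : Commute (g * t * g⁻¹) (u * v) := by
    have := htz.map (MulAut.conj g).toMonoidHom
    simpa [hg] using this
  set S : Set G := {t, g * t * g⁻¹, u * v}
  haveI : IsMulCommutative (Subgroup.closure S) := Subgroup.isMulCommutative_closure (by
    rintro x (rfl | rfl | rfl) y (rfl | rfl | rfl) <;>
      first
        | rfl
        | exact hcomm.eq
        | exact hcomm.symm.eq
        | exact htz.eq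
        | exact htz.symm.eq
        | exact ht'z.eq
        | exact ht'z.symm.eq)
  have hQ : IsPGroup 2 (Subgroup.closure S) := by
    intro x
    obtain ⟨x, hx⟩ := x
    induction hx using Subgroup.closure_induction with
    | mem x hx =>
      have : ∃ k : ℕ, orderOf x = 2 ^ k := by
        rcases hx with rfl | rfl | rfl
        · exact ⟨1, by rw [ht2, pow_one]⟩
        · exact ⟨1, by rw [show g * t * g⁻¹ = MulAut.conj g t from rfl, MulEquiv.orderOf_eq, ht2,
            pow_one]⟩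
        · exact h.isPGroup_of_mem (h.mul_mem' hu hv)
      obtain ⟨k, hk⟩ := this
      exact ⟨k, Subtype.ext (by rw [SubgroupClass.coe_pow, ← hk]; exact pow_orderOf_eq_one x)⟩
    | one => exact ⟨0, Subtype.ext (by simp)⟩
    | mul x y hx hy hx' hy' =>
      obtain ⟨i, hi⟩ := hx'
      obtain ⟨j, hj⟩ := hy'
      refine ⟨i + j, ?_⟩
      have hc : Commute (⟨x, hx⟩ : Subgroup.closure S) ⟨y, hy⟩ := mul_comm' _ _
      rw [show (⟨x * y, _⟩ : Subgroup.closure S) = ⟨x, hx⟩ * ⟨y, hy⟩ from rfl, hc.mul_pow,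
        pow_add, pow_mul, hi, one_pow, mul_comm (2 ^ i), pow_mul, hj, one_pow, one_mul]
    | inv x hx hx' =>
      obtain ⟨i, hi⟩ := hx'
      exact ⟨i, by rw [show (⟨x⁻¹, _⟩ : Subgroup.closure S) = ⟨x, hx⟩⁻¹ from rfl, inv_pow, hi,
        inv_one]⟩
  obtain ⟨k, hk⟩ := Invol.exists_conj_subset_sylow hQ P
  refine ⟨k, h.memA htA k (hk _ (Subgroup.subset_closure (by simp [S]))), ?_,
    hk _ (Subgroup.subset_closure (by simp [S]))⟩
  have h1 := h.memA htA (k * g)
    (by
      have h2 := hk _ (Subgroup.subset_closure (show g * t * g⁻¹ ∈ S by simp [S]))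
      have e : k * g * t * (k * g)⁻¹ = k * (g * t * g⁻¹) * k⁻¹ := by group
      rw [e]
      exact h2)
  simpa [mul_assoc] using h1

/-- An involution of `A` is isolated in the centralizer of its product with an element of `B`. -/
theorem isolated_invol {t v : G} (htA : t ∈ A) (hv : v ∈ B) (ht2 : orderOf t = 2) {g : G}
    (hg : g * (t * v) * g⁻¹ = t * v) (hcomm : Commute t (g * t * g⁻¹)) : g * t * g⁻¹ = t := by
  obtain ⟨k, hkt, hkt', hkz⟩ := h.exists_move htA hv htA ht2 (Commute.refl t) hg hcomm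
  have hB : ∀ c : G, c * t * c⁻¹ ∈ A → c * (t * v) * c⁻¹ ∈ (P : Subgroup G) →
      c * v * c⁻¹ ∈ B := fun c h1 h2 => h.memB hv c (by
    have e : c * v * c⁻¹ = (c * t * c⁻¹)⁻¹ * (c * (t * v) * c⁻¹) := by group
    rw [e]
    exact mul_mem (inv_mem (h.leA h1)) h2)
  have hz' : k * g * (t * v) * (k * g)⁻¹ = k * (t * v) * k⁻¹ := by
    calc k * g * (t * v) * (k * g)⁻¹ = k * (g * (t * v) * g⁻¹) * k⁻¹ := by group
      _ = _ := by rw [hg]
  have hkt'' : k * g * t * (k * g)⁻¹ ∈ A := by simpa [mul_assoc] using hkt'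
  have h1 := hB k hkt hkz
  have h2 := hB (k * g) hkt'' (by rw [hz']; exact hkz)
  obtain ⟨e, -⟩ := h.uniq hkt'' hkt h2 h1 (by
    calc k * g * t * (k * g)⁻¹ * (k * g * v * (k * g)⁻¹) = k * g * (t * v) * (k * g)⁻¹ := by group
      _ = k * (t * v) * k⁻¹ := hz'
      _ = _ := by group)
  have := congrArg (fun x => k⁻¹ * x * k) e
  simpa [mul_assoc] using this

/-- A product with an involution of `A`: the centralizer factors through its odd core. -/
theorem centralizer_factor {t z : G} (htz : Commute t z) (ht2 : orderOf t = 2)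
    (hiso : ∀ g : G, g * z * g⁻¹ = z → Commute t (g * t * g⁻¹) → g * t * g⁻¹ = t)
    (x : Subgroup.centralizer ({z} : Set G)) :
    ∃ o ∈ pPrimeCore 2 (Subgroup.centralizer ({z} : Set G)),
      ∃ m : Subgroup.centralizer ({z} : Set G), Commute (m : G) t ∧ x = m * o := by
  have htH : t ∈ (Subgroup.centralizer ({z} : Set G)) := Subgroup.mem_centralizer_singleton_iff.2 htz.eq
  have hI : IsIsolatedInvolution (⟨t, htH⟩ : (Subgroup.centralizer ({z} : Set G))) := by
    refine ⟨by rw [Subgroup.orderOf_mk]; exact ht2, fun g hg => Subtype.ext ?_⟩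
    exact hiso g (mul_inv_eq_iff_eq_mul.2 (Subgroup.mem_centralizer_singleton_iff.1 g.2))
      (hg.map (Subgroup.centralizer ({z} : Set G)).subtype)
  haveI := Grp.pPrimeCore_isNormal (p := 2) (G := (Subgroup.centralizer ({z} : Set G)))
  obtain ⟨k, -, -, hk, hkz⟩ := Invol.exists_odd_inverted hI x⁻¹
  have hkO : k ∈ pPrimeCore 2 (Subgroup.centralizer ({z} : Set G)) := by
    refine Subgroup.zpowers_le.2 ?_ hkz
    have h1 := ZStar.commutator_mem_oddCore _ (Subgroup.centralizer ({z} : Set G)) rfl _ hI x⁻¹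
    have h2 : (⟨t, htH⟩ : (Subgroup.centralizer ({z} : Set G))) * (x⁻¹ * ⟨t, htH⟩ * x⁻¹⁻¹) =
        ⟨t, htH⟩ * x⁻¹ * (⟨t, htH⟩ : (Subgroup.centralizer ({z} : Set G)))⁻¹ * x⁻¹⁻¹ := by
      rw [Invol.inv_of_orderOf_two hI.1]; group
    rw [h2]
    exact h1
  have hm : Commute (x * k) (⟨t, htH⟩ : (Subgroup.centralizer ({z} : Set G))) := by
    refine mul_inv_eq_iff_eq_mul.1 ?_
    calc x * k * ⟨t, htH⟩ * (x * k)⁻¹ = x * (k * ⟨t, htH⟩ * k⁻¹) * x⁻¹ := by group
      _ = _ := by rw [hk]; group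
  exact ⟨k⁻¹, inv_mem hkO, x * k, hm.map (Subgroup.centralizer ({z} : Set G)).subtype, by group⟩

end Prod

namespace Dih

variable {R : Subgroup G} {r s a : G} (D : Dih A R r s a)
include D

theorem conj_fix {x : G} (hx : x ∈ R) : Commute x a := by
  obtain ⟨i, rfl⟩ := Subgroup.mem_zpowers_iff.1 (D.gen ▸ hx)
  obtain ⟨j, rfl⟩ := Subgroup.mem_zpowers_iff.1 (D.gen ▸ D.a_mem)
  exact Commute.zpow_zpow (Commute.refl r) i j

theorem a_central : ∀ x ∈ A, Commute x a := by
  intro x hx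
  have hs : Commute s a := by
    refine mul_inv_eq_iff_eq_mul.1 ?_
    rw [D.inv a D.a_mem, Invol.inv_of_orderOf_two D.a_ord]
  rcases D.cases x hx with h | h
  · exact D.conj_fix h
  · have e : x = x * s * s := by rw [mul_assoc, D.s_sq, mul_one]
    rw [e]
    exact (D.conj_fix h).mul_left hs

theorem sq_of_not_mem {x : G} (hx : x ∈ A) (h : x ∉ R) : x * x = 1 := by
  have hxs := (D.cases x hx).resolve_left h
  have := D.inv _ hxs
  have e : s * (x * s) * s⁻¹ = s * x := by group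
  rw [e, mul_inv_rev, inv_eq_of_mul_eq_one_right D.s_sq] at this
  have := mul_left_cancel this
  rw [eq_inv_iff_mul_eq_one] at this
  exact this

theorem mem_of_sq_ne {x : G} (hx : x ∈ A) (h : x * x ≠ 1) : x ∈ R :=
  by_contra fun hn => h (D.sq_of_not_mem hx hn)

theorem unique_invol {x y : G} (hx : x ∈ R) (hy : y ∈ R) (hx2 : orderOf x = 2)
    (hy2 : orderOf y = 2) : x = y := by
  haveI : IsCyclic R := by rw [D.gen]; exact inferInstance
  classical
  cases nonempty_fintype R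
  by_contra hne
  have hle : ∀ {x : G}, x ∈ R → orderOf x = 2 → ∀ w : Subgroup.zpowers x, (w : G) ∈ R :=
    fun hx _ w => Subgroup.zpowers_le.2 hx w.2
  have e := IsCyclic.card_pow_eq_one_le (α := R) (n := 2) two_pos
  have hsub : ({1, ⟨x, hx⟩, ⟨y, hy⟩} : Finset R) ⊆
      Finset.univ.filter (fun w : R => w ^ 2 = 1) := by
    intro w hw
    simp only [Finset.mem_insert, Finset.mem_singleton] at hw
    refine Finset.mem_filter.2 ⟨Finset.mem_univ _, ?_⟩
    rcases hw with rfl | rfl | rfl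
    · exact one_pow 2
    · exact Subtype.ext (by rw [SubgroupClass.coe_pow, ← hx2]; exact pow_orderOf_eq_one x)
    · exact Subtype.ext (by rw [SubgroupClass.coe_pow, ← hy2]; exact pow_orderOf_eq_one y)
  have := (Finset.card_le_card hsub).trans e
  rw [Finset.card_insert_of_notMem, Finset.card_pair] at this
  · omega
  · exact fun he => hne (congrArg Subtype.val he)
  · simp only [Finset.mem_insert, Finset.mem_singleton, Subtype.ext_iff, OneMemClass.coe_one]
    rintro (h1 | h1) <;> [exact Invol.ne_one_of_orderOf_two hx2 h1.symm;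
      exact Invol.ne_one_of_orderOf_two hy2 h1.symm]

/-- The involution is a power of every nontrivial element of `R`. -/
theorem pow_eq (h : Prod P A B) {u : G} (hu : u ∈ R) (hu1 : u ≠ 1) :
    u ^ (orderOf u / 2) = a := by
  obtain ⟨k, hk⟩ := h.isPGroup_of_mem (h.leA (D.le hu))
  have hd : 2 ∣ orderOf u := by
    rcases k with _ | k
    · exact absurd (orderOf_eq_one_iff.1 (by simpa using hk)) hu1
    · exact hk ▸ dvd_pow_self 2 (by omega)
  exact D.unique_invol (pow_mem hu _) D.a_mem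
    (orderOf_pow_orderOf_div (orderOf_pos u).ne' hd) D.a_ord

theorem fix_a (h : Prod P A B) {u u' c : G} (hu : u ∈ R) (hu' : u' ∈ R) (hu1 : u ≠ 1)
    (hc : c * u * c⁻¹ = u') : c * a * c⁻¹ = a := by
  have hu'1 : u' ≠ 1 := fun e => hu1 (conj_eq_one_iff.1 (hc.trans e))
  have ho : orderOf u' = orderOf u := by
    rw [← hc, show c * u * c⁻¹ = MulAut.conj c u from rfl, MulEquiv.orderOf_eq]
  calc c * a * c⁻¹ = c * u ^ (orderOf u / 2) * c⁻¹ := by rw [D.pow_eq h hu hu1]
    _ = u' ^ (orderOf u / 2) := by rw [← conj_pow, hc]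
    _ = a := by rw [← ho, D.pow_eq h hu' hu'1]

/-- The central involution is isolated in the centralizer of a product with first component in
`R`. -/
theorem isolated_a (h : Prod P A B) {u v : G} (hu : u ∈ R) (hu1 : u ≠ 1) (hv : v ∈ B) {g : G}
    (hg : g * (u * v) * g⁻¹ = u * v) (hcomm : Commute a (g * a * g⁻¹)) : g * a * g⁻¹ = a := by
  by_cases hua : u = a
  · exact h.isolated_invol (D.le D.a_mem) hv D.a_ord (by rw [← hua]; exact hg) hcomm
  have hau : Commute a u := (D.conj_fix hu).symm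
  obtain ⟨k, hkt, hkt', hkz⟩ :=
    h.exists_move (D.le hu) hv (D.le D.a_mem) D.a_ord hau hg hcomm
  obtain ⟨α, hα, β, hβ, e⟩ := h.split hkz
  obtain ⟨c, hcu, -⟩ := h.split_conj (D.le hu) hα hv hβ e
  have hu2 : u * u ≠ 1 := fun e2 => hua (D.unique_invol hu D.a_mem
    (orderOf_eq_prime (by rw [pow_two]; exact e2) hu1) D.a_ord)
  have hα2 : α * α ≠ 1 := fun e2 => hu2 (by
    have : c * (u * u) * c⁻¹ = 1 := by rw [← e2, ← hcu]; group
    exact conj_eq_one_iff.1 this)
  have hαR := D.mem_of_sq_ne hα hα2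
  have key : ∀ T : G, T ∈ A → orderOf T = 2 → Commute T (k * (u * v) * k⁻¹) → T = a := by
    intro T hT hT2 hTz
    have hTa : Commute T α := by
      have h1 : T * (α * β) * T⁻¹ = α * β := by
        rw [← e]; exact mul_inv_eq_iff_eq_mul.2 hTz.eq
      have h2 : (T * α * T⁻¹) * β = α * β := by
        have e3 : T * (α * β) * T⁻¹ = (T * α * T⁻¹) * (T * β * T⁻¹) := by group
        rw [← h1, e3, (h.comm T hT β hβ).eq, mul_inv_cancel_right]
      exact mul_inv_eq_iff_eq_mul.1 (mul_right_cancel h2)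
    refine D.unique_invol ?_ D.a_mem hT2 D.a_ord
    by_contra hTR
    have hTs := (D.cases T hT).resolve_left hTR
    obtain ⟨i, hi⟩ := Subgroup.mem_zpowers_iff.1 (D.gen ▸ hTs)
    obtain ⟨j, hj⟩ := Subgroup.mem_zpowers_iff.1 (D.gen ▸ hαR)
    have hTe : T = (T * s) * s := by rw [mul_assoc, D.s_sq, mul_one]
    have hrc : Commute (T * s) α := by
      rw [← hi, ← hj]; exact Commute.zpow_zpow (Commute.refl r) i j
    have : T * α * T⁻¹ = α⁻¹ := by
      calc T * α * T⁻¹ = (T * s) * (s * α * s⁻¹) * (T * s)⁻¹ := by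
            conv_lhs => rw [hTe]
            rw [inv_eq_of_mul_eq_one_right D.s_sq, mul_inv_rev, inv_eq_of_mul_eq_one_right D.s_sq]; simp [mul_assoc]
        _ = α⁻¹ := by rw [D.inv α hαR]; exact mul_inv_eq_iff_eq_mul.2 hrc.inv_right.eq
    exact hα2 (by
      rw [mul_inv_eq_iff_eq_mul.2 hTa.eq] at this
      rwa [eq_inv_iff_mul_eq_one] at this)
  have hord : ∀ x : G, orderOf (k * x * k⁻¹) = orderOf x := fun x =>
    MulEquiv.orderOf_eq (MulAut.conj k) x
  have haz : Commute a (u * v) := hau.mul_right (h.comm a (D.le D.a_mem) v hv)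
  have h1 := key _ hkt (by rw [hord, D.a_ord]) (haz.map (MulAut.conj k).toMonoidHom)
  have h2 := key _ hkt' (by
    rw [hord, show g * a * g⁻¹ = MulAut.conj g a from rfl, MulEquiv.orderOf_eq, D.a_ord]) (by
    have := (haz.map (MulAut.conj g).toMonoidHom).map (MulAut.conj k).toMonoidHom
    simpa [hg] using this)
  have := congrArg (fun x => k⁻¹ * x * k) (h2.trans h1.symm)
  simpa [mul_assoc] using this

end Dih

end Cfsg.Agent.ProdFus
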