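import Cfsg.Agent.Lib.Transfer.Product.Virtual

/-!
# The virtual character on the centralizer: properties
-/

open scoped ComplexConjugate

set_option linter.unusedSectionVars false
set_option linter.style.haveILetI false

namespace Cfsg.Agent.ProdFus

open Cfsg

universe u

variable {G : Type u} [Group G] [Finite G] {P : Sylow 2 G} {A B R : Subgroup G} {r s a : G}

/-- A subgroup of index two inherits a Sylow subgroup, provided the latter is not inside. -/
theorem sylow_of_index_two {H : Type u} [Group H] [Finite H] (S : Sylow 2 H) (K : Subgroup H)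
    (hK : K.index = 2) (hSK : ¬ (S : Subgroup H) ≤ K) :
    ∃ T : Sylow 2 K, (T : Subgroup K) = (S : Subgroup H).subgroupOf K := by
  haveI : Fact (Nat.Prime 2) := ⟨Nat.prime_two⟩
  have hp : IsPGroup 2 ((S : Subgroup H).subgroupOf K) :=
    S.isPGroup'.comap_of_injective K.subtype Subtype.val_injective
  refine ⟨hp.toSylow ?_, IsPGroup.toSylow_coe _ _⟩
  obtain ⟨x, hxS, hxK⟩ := SetLike.not_le_iff_exists.1 hSK
  have h2 : (K.subgroupOf (S : Subgroup H)).index = 2 := by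
    rw [Subgroup.index_eq_two_iff]
    refine ⟨⟨x, hxS⟩, fun b => ?_⟩
    simp only [Subgroup.mem_subgroupOf, Subgroup.coe_mul]
    rw [Subgroup.mul_mem_iff_of_index_two hK]
    by_cases hb : (b : H) ∈ K
    · exact .inr ⟨hb, fun hh => hxK (hh.1 hb)⟩
    · exact .inl ⟨iff_of_false hb hxK, hb⟩
  have e1 := (S : Subgroup H).card_mul_index
  have e2 := K.card_mul_index
  have e3 := (K.subgroupOf (S : Subgroup H)).card_mul_index
  have e4 := ((S : Subgroup H).subgroupOf K).card_mul_index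
  have e5 : Nat.card ((S : Subgroup H).subgroupOf K) = Nat.card (K.subgroupOf (S : Subgroup H)) := by
    rw [← Subgroup.card_map_of_injective (K := (S : Subgroup H).subgroupOf K) K.subtype_injective,
      ← Subgroup.card_map_of_injective (K := K.subgroupOf (S : Subgroup H))
        (S : Subgroup H).subtype_injective, Subgroup.subgroupOf_map_subtype,
      Subgroup.subgroupOf_map_subtype, inf_comm]
  rw [h2] at e3
  rw [hK] at e2
  intro hd
  refine S.not_dvd_index (hd.trans (dvd_of_eq ?_))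
  rw [e5] at e4
  have hpos : 0 < Nat.card (K.subgroupOf (S : Subgroup H)) := Nat.card_pos
  refine Nat.eq_of_mul_eq_mul_left (Nat.mul_pos hpos two_pos) ?_
  calc _ = Nat.card K * 2 := by rw [← e4]; ring
    _ = _ := by rw [e2, e3, e1]

/-- The character `1 + ε - Ind λ` on the centralizer of `a`. -/
theorem exists_gamma (h : Prod P A B) (D : Dih A R r s a) (C : Subgroup G)
    (hCdef : C = Subgroup.centralizer ({a} : Set G)) [Fintype C] :
    ∃ γ : C → ℂ,
      (∀ x c, γ (c * x * c⁻¹) = γ x) ∧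
      (∀ x y, Commute x y → ¬ 2 ∣ orderOf y → γ (x * y) = γ x) ∧
      (∀ u ∈ A, ∀ v ∈ B, (u ∉ R ∨ u = 1) →
        ∀ x : C, (x : G) = u * v → γ x = 0) ∧
      (∀ v ∈ B, ∀ x : C, (x : G) = a * v → γ x = 4) ∧
      (∀ χ : G → ℂ, IsCharacter G χ → ∃ m : ℤ,
        classInner γ (fun x : C => χ x) = m) ∧
      classInner γ (fun _ : C => (1 : ℂ)) = 1 ∧
      (classInner γ γ).re ≤ 4 := by
  classical
  haveI : Fact (Nat.Prime 2) := ⟨Nat.prime_two⟩
  have hPC : (P : Subgroup G) ≤ C := (le_centralizer_a h D).trans hCdef.ge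
  set SC := P.subtype hPC with hSC
  have hcomm : ∀ x : C, Commute (x : G) a := fun x => Subgroup.mem_centralizer_singleton_iff.1 (hCdef.le x.2)
  have hC : Prod SC (A.subgroupOf C) (B.subgroupOf C) := h.sub C SC (Sylow.coe_subtype ..)
    fun x _ hxP => by
      obtain ⟨u, hu, v, hv, e⟩ := h.split hxP
      exact ⟨u, Subgroup.mem_inf.2 ⟨hu, hPC (h.leA hu)⟩, v,
        Subgroup.mem_inf.2 ⟨hv, hPC (h.leB hv)⟩, e⟩
  have hmemSC : ∀ x : ↥(SC : Subgroup C), ((x : C) : G) ∈ (P : Subgroup G) := fun x => by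
    exact Subgroup.mem_subgroupOf.1 (show (x : C) ∈ (P : Subgroup G).subgroupOf C from x.2)
  -- the character of order two
  let ι : ↥(SC : Subgroup C) →* ↥(P : Subgroup G) :=
    { toFun := fun x => ⟨((x : C) : G), hmemSC x⟩
      map_one' := rfl
      map_mul' := fun _ _ => rfl }
  obtain ⟨ε, hε, hεodd⟩ := extend_hom SC ((sgn h D).comp ι) fun x y hxy => by
    obtain ⟨c, hc⟩ := isConj_iff.1 hxy
    refine sgn_invariant h D _ _ (c : G) (hcomm c) (congrArg (fun q : C => (q : G)) hc)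
      fun u hu v hv u' hu' v' hv' ex ey => ?_
    obtain ⟨d, hd, -⟩ := hC.split_conj (u := ⟨u, hPC (h.leA hu)⟩) (u' := ⟨u', hPC (h.leA hu')⟩)
      (v := ⟨v, hPC (h.leB hv)⟩) (v' := ⟨v', hPC (h.leB hv')⟩) (g := c)
      (Subgroup.mem_subgroupOf.2 hu) (Subgroup.mem_subgroupOf.2 hu')
      (Subgroup.mem_subgroupOf.2 hv) (Subgroup.mem_subgroupOf.2 hv') (Subtype.ext (by
        simp only [Subgroup.coe_mul, Subgroup.coe_inv]
        rw [← ex, ← ey]
        exact congrArg (fun q : C => (q : G)) hc))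
    exact ⟨d, hcomm d, congrArg (fun q : C => (q : G)) hd⟩
  have hoddidx : Odd (SC : Subgroup C).index :=
    Nat.odd_iff.2 (Nat.two_dvd_ne_zero.1 SC.not_dvd_index)
  have hεP : ∀ x : C, (x : G) ∈ (P : Subgroup G) → ∀ u ∈ A, ∀ v ∈ B, (x : G) = u * v →
      ε x = if u ∈ R then 1 else -1 := by
    intro x hx u hu v hv e
    have hxS : x ∈ (SC : Subgroup C) := by
      rw [hSC, Sylow.coe_subtype]; exact Subgroup.mem_subgroupOf.2 hx
    rw [hε ⟨x, hxS⟩, MonoidHom.comp_apply]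
    have e1 := h.proj_eq (x := ι ⟨x, hxS⟩) hu hv e
    simp only [sgn, MonoidHom.coe_mk, OneHom.coe_mk, e1]
    split_ifs
    · simp
    · exact hoddidx.neg_one_pow
  have hsC : s ∈ C := hPC (h.leA D.s_mem)
  set sC : C := ⟨s, hsC⟩ with hsCdef
  have hεs : ε sC = -1 := by
    rw [hεP sC (h.leA D.s_mem) s D.s_mem 1 (one_mem B) (mul_one s).symm, if_neg D.s_not]
  set C₀ := ε.ker with hC₀
  have hneg : (-1 : ℂˣ) ≠ 1 := fun e => by
    have := congrArg (fun q : ℂˣ => (q : ℂ)) e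
    norm_num at this
  have hs0 : sC ∉ C₀ := fun e => hneg (hεs.symm.trans e)
  have hss : sC * sC = 1 := Subtype.ext D.s_sq
  have hεrange : ∀ x : C, ε x = 1 ∨ ε x = -1 := by
    intro x
    obtain ⟨u, v, huv, -, ⟨k, hk⟩, hv, -, -⟩ := Block.exists_pPart_zpowers (p := 2) x
    rw [← huv, map_mul, hεodd v hv, mul_one]
    obtain ⟨c, hc⟩ := Invol.exists_conj_subset_sylow (H := Subgroup.zpowers u)
      (IsPGroup.of_card (n := k) (by rw [Nat.card_zpowers, hk])) SC
    have hcu : ε (c * u * c⁻¹) = ε u := by rw [map_mul, map_mul, map_inv, mul_comm, inv_mul_cancel_left]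
    rw [← hcu, hε ⟨_, hc u (Subgroup.mem_zpowers u)⟩, MonoidHom.comp_apply]
    simp only [sgn, MonoidHom.coe_mk, OneHom.coe_mk]
    split_ifs
    · exact .inl (one_pow _)
    · exact .inr hoddidx.neg_one_pow
  have hidx : C₀.index = 2 := by
    rw [Subgroup.index_eq_two_iff]
    refine ⟨sC, fun x => ?_⟩
    simp only [hC₀, MonoidHom.mem_ker, map_mul, hεs]
    rcases hεrange x with e | e <;> rw [e]
    · exact .inr ⟨rfl, by simpa using hneg⟩
    · exact .inl ⟨by simp, hneg⟩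
  obtain ⟨S₀, hS₀⟩ := sylow_of_index_two SC C₀ hidx fun hle => hs0 (hle (by
    rw [hSC, Sylow.coe_subtype]; exact Subgroup.mem_subgroupOf.2 (h.leA D.s_mem)))
  have hin0 : ∀ x : C, (x : G) ∈ (P : Subgroup G) → ∀ u ∈ A, ∀ v ∈ B, (x : G) = u * v →
      (x ∈ C₀ ↔ u ∈ R) := by
    intro x hx u hu v hv e
    rw [hC₀, MonoidHom.mem_ker, hεP x hx u hu v hv e]
    split_ifs with hu' <;> simp [hu', hneg]
  have hmem0 : ∀ x : ↥(S₀ : Subgroup C₀), (((x : C₀) : C) : G) ∈ (P : Subgroup G) := fun x => by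
    exact hmemSC ⟨_, Subgroup.mem_subgroupOf.1 (hS₀.le x.2)⟩
  have hsplit0 : ∀ x ∈ C₀, x ∈ (SC : Subgroup C) → ∃ u ∈ A.subgroupOf C ⊓ C₀,
      ∃ v ∈ B.subgroupOf C ⊓ C₀, x = u * v := by
    intro x hx hxS
    have hxP := hmemSC ⟨x, hxS⟩
    obtain ⟨u, hu, v, hv, e⟩ := h.split hxP
    have huR := (hin0 x hxP u hu v hv e).1 hx
    refine ⟨⟨u, hPC (h.leA hu)⟩, Subgroup.mem_inf.2 ⟨Subgroup.mem_subgroupOf.2 hu,
      (hin0 _ (h.leA hu) u hu 1 (one_mem B) (mul_one u).symm).2 huR⟩, ⟨v, hPC (h.leB hv)⟩,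
      Subgroup.mem_inf.2 ⟨Subgroup.mem_subgroupOf.2 hv,
        (hin0 _ (h.leB hv) 1 (one_mem A) v hv (one_mul v).symm).2 (one_mem R)⟩, Subtype.ext e⟩
  have hC0 : Prod S₀ ((A.subgroupOf C).subgroupOf C₀) ((B.subgroupOf C).subgroupOf C₀) :=
    hC.sub C₀ S₀ hS₀ hsplit0
  have huR : ∀ x : ↥(S₀ : Subgroup C₀), (h.proj ⟨_, hmem0 x⟩ : G) ∈ R := fun x => by
    obtain ⟨u, hu, v, hv, e⟩ := h.split (hmem0 x)
    rw [h.proj_eq hu hv e]
    exact (hin0 _ (hmem0 x) u hu v hv e).1 (x : C₀).2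
  -- the faithful character
  obtain ⟨φ, hφ⟩ := D.exists_faithful
  let ψ : ↥(S₀ : Subgroup C₀) →* R :=
    { toFun := fun x => ⟨(h.proj ⟨_, hmem0 x⟩ : G), huR x⟩
      map_one' := Subtype.ext (by
        show (h.proj 1 : G) = 1
        rw [map_one]; rfl)
      map_mul' := fun x y => Subtype.ext (by
        show (h.proj (⟨_, hmem0 x⟩ * ⟨_, hmem0 y⟩) : G) = _
        rw [map_mul]; rfl) }
  obtain ⟨L, hL, hLodd⟩ := extend_hom S₀ (φ.comp ψ) fun x y hxy => by
    obtain ⟨c, hc⟩ := isConj_iff.1 hxy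
    obtain ⟨u, hu, v, hv, ex⟩ := hC0.split x.2
    obtain ⟨u', hu', v', hv', ey⟩ := hC0.split y.2
    obtain ⟨d, hd, -⟩ := hC0.split_conj hu hu' hv hv' (g := c) (by rw [← ex, ← ey]; exact hc)
    have euR : ∀ {z : ↥(S₀ : Subgroup C₀)} {u v : C₀}, u ∈ (A.subgroupOf C).subgroupOf C₀ →
        v ∈ (B.subgroupOf C).subgroupOf C₀ → (z : C₀) = u * v → (ψ z : G) = ((u : C) : G) :=
      fun {z u v} hu hv e => h.proj_eq (Subgroup.mem_subgroupOf.1 hu) (Subgroup.mem_subgroupOf.1 hv)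
        (congrArg (fun q : C₀ => ((q : C) : G)) e)
    have hu1 := euR hu hv ex
    have hu2 := euR hu' hv' ey
    have huRu : ((u : C) : G) ∈ R := hu1 ▸ (ψ x).2
    have huRu' : ((u' : C) : G) ∈ R := hu2 ▸ (ψ y).2
    have hord : orderOf ((u' : C) : G) = orderOf ((u : C) : G) := by
      rw [← hd]
      simp only [Subgroup.coe_mul, Subgroup.coe_inv]
      exact MulEquiv.orderOf_eq (MulAut.conj ((d : C) : G)) _
    have hz := D.mem_zpowers huRu huRu' (dvd_of_eq hord)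
    have hz0 : d * u * d⁻¹ ∈ Subgroup.zpowers u := by
      obtain ⟨i, hi⟩ := Subgroup.mem_zpowers_iff.1 hz
      rw [hd]
      exact Subgroup.mem_zpowers_iff.2 ⟨i, Subtype.ext (Subtype.ext (by simpa using hi))⟩
    have hfix := conj_eq_of_central S₀ (hC0.leA hu) (fun w hw => by
      obtain ⟨p, hp, q, hq, rfl⟩ := hC0.split hw
      refine Commute.mul_left ?_ (hC0.comm u hu q hq).symm
      refine Subtype.ext (Subtype.ext ?_)
      have hpR : ((p : C) : G) ∈ R := (hin0 (p : C) (h.leA (Subgroup.mem_subgroupOf.1 hp))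
        _ (Subgroup.mem_subgroupOf.1 hp) 1 (one_mem B) (mul_one _).symm).1 p.2
      obtain ⟨i, hi⟩ := Subgroup.mem_zpowers_iff.1 ((le_of_eq D.gen) hpR)
      obtain ⟨j, hj⟩ := Subgroup.mem_zpowers_iff.1 ((le_of_eq D.gen) huRu)
      show ((p : C) : G) * ((u : C) : G) = ((u : C) : G) * ((p : C) : G)
      rw [← hi, ← hj]
      exact (Commute.zpow_zpow (Commute.refl r) i j).eq) hz0
    rw [hd] at hfix
    show φ (ψ x) = φ (ψ y)
    congr 1
    exact Subtype.ext (by rw [hu1, hu2, hfix])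
  have hoddidx0 : Odd (S₀ : Subgroup C₀).index :=
    Nat.odd_iff.2 (Nat.two_dvd_ne_zero.1 S₀.not_dvd_index)
  have hLP : ∀ x : C₀, ((x : C) : G) ∈ (P : Subgroup G) → ∀ u ∈ A, ∀ v ∈ B,
      ((x : C) : G) = u * v → ∃ hu : u ∈ R, L x = φ ⟨u, hu⟩ ^ (S₀ : Subgroup C₀).index := by
    intro x hx u hu v hv e
    have hxS : x ∈ (S₀ : Subgroup C₀) := by
      rw [hS₀, Subgroup.mem_subgroupOf, hSC, Sylow.coe_subtype]
      exact Subgroup.mem_subgroupOf.2 hx
    refine ⟨(hin0 (x : C) hx u hu v hv e).1 x.2, ?_⟩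
    rw [hL ⟨x, hxS⟩, MonoidHom.comp_apply]
    congr 2
    exact Subtype.ext (h.proj_eq hu hv e)
  haveI : C₀.Normal := Subgroup.normal_of_index_eq_two hidx
  let tw : C₀ → C₀ := fun x => ⟨sC * (x : C) * sC⁻¹, Subgroup.Normal.conj_mem inferInstance _ x.2 _⟩
  have hsinv : sC⁻¹ = sC := inv_eq_of_mul_eq_one_right hss
  have htw : Function.Involutive tw := fun x => Subtype.ext (by
    show sC * (sC * (x : C) * sC⁻¹) * sC⁻¹ = (x : C)
    rw [hsinv, ← mul_assoc, ← mul_assoc, hss, one_mul, mul_assoc, hss, mul_one])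
  set γ : C → ℂ := fun x => if hx : x ∈ C₀ then 2 - (L ⟨x, hx⟩ : ℂ) - (L (tw ⟨x, hx⟩) : ℂ) else 0
    with hγ
  have hγ0 : ∀ x : C₀, γ x = 2 - (L x : ℂ) - (L (tw x) : ℂ) := fun x => by
    simp only [hγ, dif_pos x.2]
  have hLa : ∀ x : C₀, ((x : C) : G) ∈ (P : Subgroup G) → ∀ v ∈ B,
      ((x : C) : G) = a * v → (L x : ℂ) = -1 := by
    intro x hx v hv e
    obtain ⟨hu, e'⟩ := hLP x hx a (D.le D.a_mem) v hv e
    rw [e', hφ, hoddidx0.neg_one_pow]
    simp
  have hLne : L ≠ 1 := fun e => by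
    have haC : a ∈ C := hPC (h.leA (D.le D.a_mem))
    have ha0 : (⟨a, haC⟩ : C) ∈ C₀ := (hin0 _ (h.leA (D.le D.a_mem)) a (D.le D.a_mem) 1
      (one_mem B) (mul_one a).symm).2 D.a_mem
    have := hLa ⟨_, ha0⟩ (h.leA (D.le D.a_mem)) 1 (one_mem B) (mul_one a).symm
    rw [e] at this
    norm_num at this
  letI := Fintype.ofFinite C₀
  have hcard : (Nat.card C : ℂ) = 2 * (Nat.card C₀ : ℂ) := by
    rw [← C₀.card_mul_index, hidx]; push_cast; ring
  have hsum : ∀ f : C → ℂ, (∀ x, x ∉ C₀ → f x = 0) → ∑ x : C, f x = ∑ x : C₀, f x := by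
    intro f hf
    rw [← Finset.sum_subset (Finset.subset_univ (Finset.univ.filter (· ∈ C₀)))
      (fun x _ hx => hf x (by simpa using hx))]
    exact (Finset.sum_subtype _ (fun x => by simp) _)
  have hLsum : ∑ x : C₀, (L x : ℂ) = 0 := by
    have := sum_hom_units_eq_zero ((Units.coeHom ℂ).comp L) (fun e => hLne (by
      ext x; simpa using DFunLike.congr_fun e x))
    simpa using this
  have hLsum' : ∑ x : C₀, (L (tw x) : ℂ) = 0 := by
    rw [← hLsum]; exact Fintype.sum_bijective tw htw.bijective _ _ fun _ => rfl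
  refine ⟨γ, ?_, ?_, ?_, ?_, ?_, ?_, ?_⟩
  · intro x c
    by_cases hx : x ∈ C₀
    · have hx' : c * x * c⁻¹ ∈ C₀ := Subgroup.Normal.conj_mem inferInstance _ hx _
      rw [hγ0 ⟨_, hx'⟩, hγ0 ⟨x, hx⟩]
      have hconj : ∀ (k : C) (hk : k ∈ C₀) (y : C) (hy : y ∈ C₀) (hy' : k * y * k⁻¹ ∈ C₀),
          L ⟨k * y * k⁻¹, hy'⟩ = L ⟨y, hy⟩ := by
        intro k hk y hy hy'
        rw [show (⟨k * y * k⁻¹, hy'⟩ : C₀) = ⟨k, hk⟩ * ⟨y, hy⟩ * ⟨k, hk⟩⁻¹ from rfl, map_mul,
          map_mul, map_inv, mul_comm, inv_mul_cancel_left]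
      have hc : c ∈ C₀ ∨ c * sC ∈ C₀ := by
        rw [Subgroup.mul_mem_iff_of_index_two hidx]
        by_cases hc : c ∈ C₀
        · exact .inl hc
        · exact .inr (iff_of_false hc hs0)
      rcases hc with hc | hc
      · rw [hconj c hc x hx hx']
        have e1 : sC * (c * x * c⁻¹) * sC⁻¹ = (sC * c * sC⁻¹) * (sC * x * sC⁻¹) * (sC * c * sC⁻¹)⁻¹ := by
          group
        have e2 : L (tw ⟨_, hx'⟩) = L (tw ⟨x, hx⟩) := by
          rw [← hconj (sC * c * sC⁻¹) (Subgroup.Normal.conj_mem inferInstance _ hc _) _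
            (tw ⟨x, hx⟩).2 (e1 ▸ (tw ⟨_, hx'⟩).2)]
          exact congrArg L (Subtype.ext e1)
        rw [e2]
      · have e1 : c * x * c⁻¹ = (c * sC) * (sC * x * sC⁻¹) * (c * sC)⁻¹ := by
          rw [mul_inv_rev, hsinv]; simp [mul_assoc, ← mul_assoc sC sC, hss]
        have e3 : L ⟨_, hx'⟩ = L (tw ⟨x, hx⟩) := by
          rw [← hconj (c * sC) hc _ (tw ⟨x, hx⟩).2 (e1 ▸ hx')]
          exact congrArg L (Subtype.ext e1)
        have e4 : sC * (c * x * c⁻¹) * sC⁻¹ = (sC * c) * x * (sC * c)⁻¹ := by group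
        have hsc : sC * c ∈ C₀ := by
          rw [Subgroup.mul_mem_iff_of_index_two hidx]
          exact ((Subgroup.mul_mem_iff_of_index_two hidx).1 hc).symm
        have e5 : L (tw ⟨_, hx'⟩) = L ⟨x, hx⟩ := by
          rw [← hconj (sC * c) hsc x hx (e4 ▸ (tw ⟨_, hx'⟩).2)]
          exact congrArg L (Subtype.ext e4)
        rw [e3, e5]; ring
    · have hx' : c * x * c⁻¹ ∉ C₀ := fun e => hx (by
        have := Subgroup.Normal.conj_mem (inferInstance : C₀.Normal) _ e c⁻¹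
        simpa [mul_assoc] using this)
      simp only [hγ, dif_neg hx, dif_neg hx']
  · intro x y _ hy
    have hy0 : y ∈ C₀ := hεodd y hy
    by_cases hx : x ∈ C₀
    · rw [hγ0 ⟨x, hx⟩, show x * y = ((⟨x, hx⟩ * ⟨y, hy0⟩ : C₀) : C) from rfl, hγ0,
        map_mul, hLodd ⟨y, hy0⟩ (by rwa [Subgroup.orderOf_mk]), mul_one]
      have e : tw (⟨x, hx⟩ * ⟨y, hy0⟩) = tw ⟨x, hx⟩ * tw ⟨y, hy0⟩ := Subtype.ext (by
        show sC * (x * y) * sC⁻¹ = sC * x * sC⁻¹ * (sC * y * sC⁻¹)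
        group)
      rw [e, map_mul, hLodd (tw ⟨y, hy0⟩) (by
        rw [← Subgroup.orderOf_coe]
        show ¬ 2 ∣ orderOf (sC * y * sC⁻¹)
        rwa [show sC * y * sC⁻¹ = MulAut.conj sC y from rfl, MulEquiv.orderOf_eq]), mul_one]
    · have hxy : x * y ∉ C₀ := fun e => hx (by
        have := mul_mem e (inv_mem hy0)
        rwa [mul_inv_cancel_right] at this)
      simp only [hγ, dif_neg hx, dif_neg hxy]
  · intro u hu v hv hcase x e
    have hxP : (x : G) ∈ (P : Subgroup G) := e ▸ h.mul_mem' hu hv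
    by_cases huR : u ∈ R
    · obtain rfl : u = 1 := hcase.resolve_left (not_not.2 huR)
      have hx0 : x ∈ C₀ := (hin0 x hxP 1 hu v hv e).2 huR
      rw [hγ0 ⟨x, hx0⟩]
      obtain ⟨hu', e1⟩ := hLP ⟨x, hx0⟩ hxP 1 hu v hv e
      have etw : ((tw ⟨x, hx0⟩ : C) : G) = 1 * v := by
        show s * (x : G) * s⁻¹ = 1 * v
        rw [e, one_mul, (h.comm s D.s_mem v hv).eq, mul_inv_cancel_right]
      obtain ⟨hu'', e2⟩ := hLP (tw ⟨x, hx0⟩) (etw ▸ h.mul_mem' hu hv) 1 hu v hv etw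
      rw [e1, e2, show (⟨1, hu'⟩ : R) = 1 from rfl, map_one, one_pow]
      simp
      norm_num
    · have hx0 : x ∉ C₀ := fun hh => huR ((hin0 x hxP u hu v hv e).1 hh)
      simp only [hγ, dif_neg hx0]
  · intro v hv x e
    have hxP : (x : G) ∈ (P : Subgroup G) := e ▸ h.mul_mem' (D.le D.a_mem) hv
    have hx0 : x ∈ C₀ := (hin0 x hxP a (D.le D.a_mem) v hv e).2 D.a_mem
    have etw : ((tw ⟨x, hx0⟩ : C) : G) = a * v := by
      show s * (x : G) * s⁻¹ = a * v
      rw [e]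
      calc s * (a * v) * s⁻¹ = (s * a * s⁻¹) * (s * v * s⁻¹) := by group
        _ = _ := by
          rw [D.inv a D.a_mem, Invol.inv_of_orderOf_two D.a_ord, (h.comm s D.s_mem v hv).eq,
            mul_inv_cancel_right]
    rw [hγ0 ⟨x, hx0⟩, hLa ⟨x, hx0⟩ hxP v hv e,
      hLa (tw ⟨x, hx0⟩) (etw ▸ h.mul_mem' (D.le D.a_mem) hv) v hv etw]
    norm_num
  · intro χ hχ
    have hres : IsCharacter C₀ (fun x : C₀ => χ ((x : C) : G)) :=
      Char.IsChar.comp (C.subtype.comp C₀.subtype) hχ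
    obtain ⟨m₁, hm₁⟩ := Char.IsChar.classInner_nat (Char.IsChar.one (G := C₀)) hres
    obtain ⟨m₂, hm₂⟩ := Char.IsChar.classInner_nat
      (Char.IsIrr.isCharacter (Char.isIrr_linear L)) hres
    refine ⟨(m₁ : ℤ) - m₂, ?_⟩
    push_cast
    rw [← hm₁, ← hm₂, classInner, classInner, classInner, hsum _ (fun x hx => by
      simp only [hγ, dif_neg hx, zero_mul]), hcard]
    simp only [hγ0, sub_mul, Finset.sum_sub_distrib]
    have hswap : ∑ x : C₀, (L (tw x) : ℂ) * conj (χ ((x : C) : G)) =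
        ∑ x : C₀, (L x : ℂ) * conj (χ ((x : C) : G)) := by
      refine Fintype.sum_bijective tw htw.bijective _ _ fun x => ?_
      congr 2
      show χ ((x : C) : G) = χ (s * ((x : C) : G) * s⁻¹)
      exact (Char.IsChar.classFun hχ _ s).symm
    rw [hswap, ← Finset.mul_sum]
    have h0 : (Nat.card C₀ : ℂ) ≠ 0 := Nat.cast_ne_zero.2 Nat.card_pos.ne'
    simp only [one_mul]
    field_simp
    ring
  · rw [classInner, hsum _ (fun x hx => by simp only [hγ, dif_neg hx, zero_mul]), hcard]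
    simp only [hγ0, map_one, mul_one, Finset.sum_sub_distrib, hLsum, hLsum', Finset.sum_const,
      Finset.card_univ, ← Nat.card_eq_fintype_card, nsmul_eq_mul]
    have h0 : (Nat.card C₀ : ℂ) ≠ 0 := Nat.cast_ne_zero.2 Nat.card_pos.ne'
    field_simp
    ring
  · rw [classInner, hsum _ (fun x hx => by simp only [hγ, dif_neg hx, zero_mul]), hcard]
    have hb : ∀ x : C₀, γ x * conj (γ x) =
        4 - 2 * ((L x : ℂ) + L (tw x)) - 2 * conj ((L x : ℂ) + L (tw x)) +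
          (Complex.normSq ((L x : ℂ) + L (tw x)) : ℂ) := by
      intro x
      rw [hγ0, ← Complex.mul_conj]
      simp only [map_sub, map_add, map_ofNat]
      ring
    simp only [hb, Finset.sum_add_distrib, Finset.sum_sub_distrib, ← Finset.mul_sum, ← map_sum,
      hLsum, hLsum', add_zero, map_zero, mul_zero, sub_zero, Finset.sum_const, Finset.card_univ,
      ← Nat.card_eq_fintype_card, nsmul_eq_mul]
    have hunit : ∀ x : C₀, ‖(L x : ℂ)‖ = 1 := fun x => by
      refine Complex.norm_eq_one_of_pow_eq_one (n := Nat.card C₀) ?_ Nat.card_pos.ne'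
      rw [← Units.val_pow_eq_pow_val, ← map_pow, pow_card_eq_one', map_one, Units.val_one]
    have hle : ∀ x : C₀, Complex.normSq ((L x : ℂ) + L (tw x)) ≤ 4 := fun x => by
      rw [Complex.normSq_eq_norm_sq]
      have := norm_add_le (L x : ℂ) (L (tw x) : ℂ)
      rw [hunit, hunit] at this
      nlinarith [norm_nonneg ((L x : ℂ) + L (tw x))]
    have hsle : ∑ x : C₀, Complex.normSq ((L x : ℂ) + L (tw x)) ≤ 4 * (Nat.card C₀ : ℝ) := by
      refine (Finset.sum_le_sum fun x _ => hle x).trans (le_of_eq ?_)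
      rw [Finset.sum_const, Finset.card_univ, Nat.card_eq_fintype_card, nsmul_eq_mul, mul_comm]
    have hpos : (0 : ℝ) < Nat.card C₀ := by exact_mod_cast Nat.card_pos
    rw [show ((2 : ℂ) * (Nat.card C₀ : ℂ))⁻¹ = (((2 * (Nat.card C₀ : ℝ))⁻¹ : ℝ) : ℂ) by push_cast; ring,
      ← Complex.ofReal_sum, show ((Nat.card C₀ : ℂ) * 4) + ((∑ x : C₀, Complex.normSq ((L x : ℂ) + L (tw x)) : ℝ) : ℂ) =
        (((Nat.card C₀ : ℝ) * 4 + ∑ x : C₀, Complex.normSq ((L x : ℂ) + L (tw x)) : ℝ) : ℂ) by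
          push_cast; ring,
      ← Complex.ofReal_mul, Complex.ofReal_re, inv_mul_le_iff₀ (by positivity)]
    linarith

end Cfsg.Agent.ProdFus
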