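import Cfsg.Agent.Lib.Transfer.Product.Fusion
import Cfsg.Agent.Lib.Invol.TransferKernel

/-!
# Linear characters from fusion-invariant characters of a Sylow 2-subgroup
-/

set_option linter.unusedSectionVars false
set_option linter.style.haveILetI false

namespace Cfsg.Agent.ProdFus

open Cfsg

universe u

variable {G : Type u} [Group G] [Finite G]

/-- A fusion-invariant homomorphism of a Sylow 2-subgroup extends up to an odd power. -/
theorem extend_hom (S : Sylow 2 G) {Z : Type*} [CommGroup Z] (φ : ↥(S : Subgroup G) →* Z)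
    (hf : ∀ x y : ↥(S : Subgroup G), IsConj (x : G) (y : G) → φ x = φ y) :
    ∃ T : G →* Z, (∀ x : ↥(S : Subgroup G), T (x : G) = φ x ^ (S : Subgroup G).index) ∧
      ∀ g : G, ¬ 2 ∣ orderOf g → T g = 1 := by
  classical
  haveI : Fact (Nat.Prime 2) := ⟨Nat.prime_two⟩
  haveI : Finite φ.range := Finite.of_surjective φ.rangeRestrict φ.rangeRestrict_surjective
  have hAp : IsPGroup 2 φ.range := S.isPGroup'.of_surjective _ φ.rangeRestrict_surjective
  have := Fintype.ofFinite (G ⧸ (S : Subgroup G))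
  set T := MonoidHom.transfer φ.rangeRestrict with hT
  refine ⟨φ.range.subtype.comp T, fun x => ?_, fun g hg => ?_⟩
  · rw [MonoidHom.comp_apply, hT, MonoidHom.transfer_eq_prod_quotient_orbitRel_zpowers_quot]
    have hterm : ∀ q : Quotient (MulAction.orbitRel (Subgroup.zpowers (x : G)) (G ⧸ (S : Subgroup G))),
        φ.rangeRestrict ⟨_, QuotientGroup.out_conj_pow_minimalPeriod_mem (S : Subgroup G) (x : G) q.out⟩ =
          φ.rangeRestrict x ^ Function.minimalPeriod ((x : G) • ·) q.out := by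
      intro q
      rw [← map_pow]
      refine Subtype.ext ((hf _ _ ?_).symm)
      exact isConj_iff.mpr ⟨q.out.out⁻¹, by simp [SubgroupClass.coe_pow]⟩
    rw [Finset.prod_congr rfl fun q _ => hterm q, Finset.prod_pow_eq_pow_sum,
      ← Subgroup.index_eq_sum_minimalPeriod]
    rfl
  · rw [MonoidHom.comp_apply]
    obtain ⟨k, hk⟩ := IsPGroup.iff_orderOf.1 hAp (T g)
    have h1 : orderOf (T g) ∣ orderOf g := orderOf_map_dvd T g
    have h2 : orderOf (T g) = 1 := by
      rcases k with _ | k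
      · simpa using hk
      · exact absurd ((hk ▸ dvd_pow_self 2 (by omega) : 2 ∣ orderOf (T g)).trans h1) hg
    rw [orderOf_eq_one_iff.1 h2, map_one]

/-- An element centralized by a Sylow 2-subgroup is fixed by what normalizes the cyclic group it
generates. -/
theorem conj_eq_of_central (S : Sylow 2 G) {x c : G} (hx : x ∈ (S : Subgroup G))
    (hS : ∀ y ∈ (S : Subgroup G), Commute y x) (hc : c * x * c⁻¹ ∈ Subgroup.zpowers x) :
    c * x * c⁻¹ = x := by
  haveI : Fact (Nat.Prime 2) := ⟨Nat.prime_two⟩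
  set Z := Subgroup.zpowers x with hZ
  have hcN : c ∈ Subgroup.normalizer (Z : Set G) := BS.mem_normalizer_of_conj_le fun w hw => by
    obtain ⟨i, rfl⟩ := Subgroup.mem_zpowers_iff.1 hw
    rw [← conj_zpow]
    exact zpow_mem hc i
  set K := Z.normalizerMonoidHom.ker with hK
  have hSN : (S : Subgroup G) ≤ Subgroup.normalizer (Z : Set G) := fun y hy =>
    BS.mem_normalizer_of_conj_le fun w hw => by
      obtain ⟨i, rfl⟩ := Subgroup.mem_zpowers_iff.1 hw
      rwa [((hS y hy).zpow_right i).eq, mul_inv_cancel_right]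
  have hKodd : ¬ 2 ∣ K.index := by
    intro hd
    refine S.not_dvd_index (hd.trans ?_)
    have hle : (S : Subgroup G).subgroupOf (Subgroup.normalizer (Z : Set G)) ≤ K := by
      intro y hy
      rw [hK, Subgroup.normalizerMonoidHom_ker]
      refine Subgroup.mem_subgroupOf.2 (Subgroup.mem_centralizer_iff.2 fun w hw => ?_)
      obtain ⟨i, rfl⟩ := Subgroup.mem_zpowers_iff.1 hw
      exact ((hS y (Subgroup.mem_subgroupOf.1 hy)).zpow_right i).symm.eq
    exact (Subgroup.index_dvd_of_le hle).trans (Subgroup.relIndex_dvd_index_of_le hSN)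
  have hdvd : K.index ∣ Nat.card (MulAut Z) := by
    rw [hK, Subgroup.index_ker]
    exact Subgroup.card_subgroup_dvd_card _
  obtain ⟨k, hk⟩ := IsPGroup.iff_orderOf.1 S.isPGroup' ⟨x, hx⟩
  rw [Subgroup.orderOf_mk] at hk
  have hAut : ∃ j : ℕ, Nat.card (MulAut Z) = 2 ^ j := by
    haveI : IsCyclic Z := by rw [hZ]; exact inferInstance
    rw [IsCyclic.card_mulAut, hZ, Nat.card_zpowers, hk]
    rcases k with _ | k
    · exact ⟨0, by simp⟩
    · exact ⟨k, by rw [Nat.totient_prime_pow Nat.prime_two (by omega)]; simp⟩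
  obtain ⟨j, hj⟩ := hAut
  have h1 : K.index = 1 := by
    rw [hj] at hdvd
    obtain ⟨i, -, hi⟩ := (Nat.dvd_prime_pow Nat.prime_two).1 hdvd
    rcases i with _ | i
    · simpa using hi
    · exact absurd (hi ▸ dvd_pow_self 2 (by omega)) hKodd
  have hcK : (⟨c, hcN⟩ : Subgroup.normalizer (Z : Set G)) ∈ K := by
    rw [Subgroup.index_eq_one] at h1
    rw [h1]; exact Subgroup.mem_top _
  rw [hK, Subgroup.normalizerMonoidHom_ker, Subgroup.mem_subgroupOf, Subgroup.mem_centralizer_iff] at hcK
  have := hcK x (Subgroup.mem_zpowers x)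
  rw [← this, mul_inv_cancel_right]

namespace Prod

variable {P : Sylow 2 G} {A B : Subgroup G}

/-- Product fusion in a subgroup. -/
theorem sub (h : Prod P A B) (H : Subgroup G) (S : Sylow 2 H)
    (hS : (S : Subgroup H) = (P : Subgroup G).subgroupOf H)
    (hsplit : ∀ x ∈ H, x ∈ (P : Subgroup G) → ∃ u ∈ A ⊓ H, ∃ v ∈ B ⊓ H, x = u * v) :
    Prod S (A.subgroupOf H) (B.subgroupOf H) where
  clA := ⟨fun x hx => by
      rw [hS]; exact Subgroup.mem_subgroupOf.2 (h.leA (Subgroup.mem_subgroupOf.1 hx)),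
    fun x hx g hg => by
      rw [hS] at hg
      have := h.memA (Subgroup.mem_subgroupOf.1 hx) (g : G) (by
        simpa using Subgroup.mem_subgroupOf.1 hg)
      exact Subgroup.mem_subgroupOf.2 (by simpa using this)⟩
  clB := ⟨fun x hx => by
      rw [hS]; exact Subgroup.mem_subgroupOf.2 (h.leB (Subgroup.mem_subgroupOf.1 hx)),
    fun x hx g hg => by
      rw [hS] at hg
      have := h.memB (Subgroup.mem_subgroupOf.1 hx) (g : G) (by
        simpa using Subgroup.mem_subgroupOf.1 hg)
      exact Subgroup.mem_subgroupOf.2 (by simpa using this)⟩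
  comm := fun x hx y hy =>
    Subtype.ext (h.comm x (Subgroup.mem_subgroupOf.1 hx) y (Subgroup.mem_subgroupOf.1 hy)).eq
  disj := by
    rw [eq_bot_iff]
    intro x hx
    have : (x : G) ∈ A ⊓ B := Subgroup.mem_inf.2
      ⟨Subgroup.mem_subgroupOf.1 (Subgroup.mem_inf.1 hx).1,
        Subgroup.mem_subgroupOf.1 (Subgroup.mem_inf.1 hx).2⟩
    rw [h.disj, Subgroup.mem_bot] at this
    exact Subgroup.mem_bot.2 (Subtype.ext this)
  sup := by
    apply le_antisymm
    · refine sup_le (fun x hx => ?_) (fun x hx => ?_) <;> rw [hS]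
      · exact Subgroup.mem_subgroupOf.2 (h.leA (Subgroup.mem_subgroupOf.1 hx))
      · exact Subgroup.mem_subgroupOf.2 (h.leB (Subgroup.mem_subgroupOf.1 hx))
    · intro x hx
      rw [hS] at hx
      obtain ⟨u, hu, v, hv, e⟩ := hsplit x x.2 (Subgroup.mem_subgroupOf.1 hx)
      rw [show x = (⟨u, (Subgroup.mem_inf.1 hu).2⟩ : H) * ⟨v, (Subgroup.mem_inf.1 hv).2⟩ from
        Subtype.ext e]
      exact mul_mem (Subgroup.mem_sup_left (Subgroup.mem_subgroupOf.2 (Subgroup.mem_inf.1 hu).1))
        (Subgroup.mem_sup_right (Subgroup.mem_subgroupOf.2 (Subgroup.mem_inf.1 hv).1))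

/-- The first component, as a homomorphism. -/
noncomputable def proj (h : Prod P A B) : ↥(P : Subgroup G) →* A where
  toFun x := ⟨(h.split x.2).choose, (h.split x.2).choose_spec.1⟩
  map_one' := by
    obtain ⟨hu, v, hv, e⟩ := (h.split (one_mem (P : Subgroup G))).choose_spec
    exact Subtype.ext (h.uniq hu (one_mem A) hv (one_mem B) (e.symm.trans (mul_one 1).symm)).1
  map_mul' x y := by
    obtain ⟨hu, v, hv, e⟩ := (h.split x.2).choose_spec
    obtain ⟨hu', v', hv', e'⟩ := (h.split y.2).choose_spec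
    obtain ⟨hu'', v'', hv'', e''⟩ := (h.split (x * y).2).choose_spec
    refine Subtype.ext (h.uniq hu'' (mul_mem hu hu') hv'' (mul_mem hv hv') (e''.symm.trans ?_)).1
    calc ((x * y : ↥(P : Subgroup G)) : G) = (x : G) * y := rfl
      _ = _ := by conv_lhs => rw [e, e']
      _ = _ := by
        rw [mul_assoc, ← mul_assoc v, ← (h.comm _ hu' v hv).eq]
        simp [mul_assoc]

theorem proj_eq (h : Prod P A B) {x : ↥(P : Subgroup G)} {u v : G} (hu : u ∈ A) (hv : v ∈ B)
    (e : (x : G) = u * v) : (h.proj x : G) = u := by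
  obtain ⟨hu', v', hv', e'⟩ := (h.split x.2).choose_spec
  exact (h.uniq hu' hu hv' hv (e'.symm.trans e)).1

end Prod

end Cfsg.Agent.ProdFus
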