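import Cfsg.Agent.Lib.Transfer.Product.Moments
import Cfsg.Agent.Lib.Grp.Cores

/-!
# Product fusion: the closures of the factors
-/

set_option linter.unusedSectionVars false
set_option linter.style.haveILetI false

namespace Cfsg.Agent.ProdFus

open Cfsg Cfsg.Agent.Block

universe u

variable {G : Type u} [Group G] [Finite G] {P : Sylow 2 G} {A B R : Subgroup G} {r s a : G}

/-- A group generated by the conjugates of `B` has no dihedral complementary factor. -/
theorem normalClosure_ne_top (h : Prod P A B) (D : Dih A R r s a)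
    (hgen : B ≤ Subgroup.closure {b | b ∈ B ∧ orderOf b = 2}) :
    Subgroup.normalClosure (B : Set G) ≠ ⊤ := by
  classical
  cases nonempty_fintype G
  intro htop
  by_cases hJne : (Finset.univ.filter fun b : G => b ∈ B ∧ orderOf b = 2).Nonempty
  · obtain ⟨χ, hne, hker⟩ := exists_char_ker h D (Finset.univ.filter fun b : G => b ∈ B ∧ orderOf b = 2)
      (fun b hb => (Finset.mem_filter.1 hb).2) hJne
    set K := Cfsg.Agent.Char.charKer (irr_isChar χ)
    haveI : K.Normal := Cfsg.Agent.Char.charKer_normal _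
    have hBK : B ≤ K := hgen.trans ((Subgroup.closure_le K).2 fun b hb =>
      (Cfsg.Agent.Char.mem_charKer _).2 (hker b (Finset.mem_filter.2 ⟨Finset.mem_univ _, hb⟩)))
    have hK : K = ⊤ := top_le_iff.1 (htop ▸ Subgroup.normalClosure_le_normal hBK)
    have hconst : ∀ g, (χ : G → ℂ) g = (χ : G → ℂ) 1 := fun g =>
      (Cfsg.Agent.Char.mem_charKer _).1 (hK ▸ Subgroup.mem_top g : g ∈ K)
    have h0 := Cfsg.Agent.Char.classInner_irr_ne χ.2 (trivialIrr G).2 fun e => hne (Subtype.ext e)
    simp only [classInner, hconst, show ∀ g, ((trivialIrr G : IrrCharacter G) : G → ℂ) g = 1 from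
      fun _ => rfl, map_one, mul_one, Finset.sum_const, Finset.card_univ,
      ← Nat.card_eq_fintype_card, nsmul_eq_mul] at h0
    rw [inv_mul_cancel_left₀ (Nat.cast_ne_zero.2 Nat.card_pos.ne')] at h0
    exact irr_one_ne_zero χ h0
  · have hB : B = ⊥ := le_bot_iff.1 (hgen.trans ((Subgroup.closure_le ⊥).2 fun b hb =>
      absurd ⟨b, Finset.mem_filter.2 ⟨Finset.mem_univ _, hb⟩⟩ hJne))
    subst hB
    have : Subgroup.normalClosure ((⊥ : Subgroup G) : Set G) = ⊥ :=
      le_bot_iff.1 (Subgroup.normalClosure_le_normal (N := (⊥ : Subgroup G)) (by simp))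
    rw [this] at htop
    have : a ∈ (⊥ : Subgroup G) := htop ▸ Subgroup.mem_top a
    exact Invol.ne_one_of_orderOf_two D.a_ord (Subgroup.mem_bot.1 this)

/-- A cyclic factor is trivial in a group generated by the conjugates of the other. -/
theorem eq_bot_of_cyclic (h : Prod P A B) [IsCyclic A]
    (htop : Subgroup.normalClosure (B : Set G) = ⊤) : A = ⊥ := by
  classical
  haveI : Fact (Nat.Prime 2) := ⟨Nat.prime_two⟩
  letI : CommGroup A := IsCyclic.commGroup
  obtain ⟨T, hT, -⟩ := extend_hom P h.proj fun x y hxy => by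
    obtain ⟨c, hc⟩ := isConj_iff.1 hxy
    obtain ⟨u, hu, v, hv, ex⟩ := h.split x.2
    obtain ⟨u', hu', v', hv', ey⟩ := h.split y.2
    obtain ⟨d, hd, -⟩ := h.split_conj hu hu' hv hv' (g := c) (by rw [← ex, ← ey]; exact hc)
    refine Subtype.ext ?_
    rw [h.proj_eq hu hv ex, h.proj_eq hu' hv' ey, ← hd]
    symm
    refine conj_eq_of_central P (h.leA hu) (fun y hy => ?_) ?_
    · obtain ⟨p, hp, q, hq, rfl⟩ := h.split hy
      exact Commute.mul_left (congrArg Subtype.val (mul_comm (⟨p, hp⟩ : A) ⟨u, hu⟩))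
        (h.comm u hu q hq).symm
    · rw [hd]
      obtain ⟨g, hg⟩ := IsCyclic.exists_generator (α := A)
      have hgen : A = Subgroup.zpowers (g : G) := by
        apply le_antisymm
        · intro x hx
          obtain ⟨i, hi⟩ := Subgroup.mem_zpowers_iff.1 (hg ⟨x, hx⟩)
          exact Subgroup.mem_zpowers_iff.2 ⟨i, by simpa using congrArg Subtype.val hi⟩
        · exact Subgroup.zpowers_le.2 g.2
      cases nonempty_fintype A
      cases nonempty_fintype (Subgroup.zpowers u)
      by_contra hne
      set inc : Subgroup.zpowers u → A := fun w => ⟨w, (Subgroup.zpowers_le.2 hu) w.2⟩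
      have hinj : Function.Injective inc := fun w w' hw =>
        Subtype.ext (congrArg (fun q : A => (q : G)) hw :)
      have hnot : (⟨u', hu'⟩ : A) ∉ Finset.univ.image inc := fun hm => by
        obtain ⟨w, -, hw⟩ := Finset.mem_image.1 hm
        have hwu : (w : G) = u' := congrArg (fun q : A => (q : G)) hw
        exact hne (hwu ▸ w.2)
      have hsub : insert (⟨u', hu'⟩ : A) (Finset.univ.image inc) ⊆
          Finset.univ.filter (fun w : A => w ^ orderOf u = 1) := by
        intro w hw
        refine Finset.mem_filter.2 ⟨Finset.mem_univ _, Subtype.ext ?_⟩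
        rw [SubgroupClass.coe_pow, OneMemClass.coe_one]
        rcases Finset.mem_insert.1 hw with rfl | hw
        · show u' ^ orderOf u = 1
          rw [← hd, conj_pow, pow_orderOf_eq_one, mul_one, mul_inv_cancel]
        · obtain ⟨⟨q, hq⟩, -, rfl⟩ := Finset.mem_image.1 hw
          obtain ⟨i, rfl⟩ := Subgroup.mem_zpowers_iff.1 hq
          show (u ^ i) ^ orderOf u = 1
          rw [← zpow_natCast, ← zpow_mul, mul_comm, zpow_mul, zpow_natCast, pow_orderOf_eq_one,
            one_zpow]
      have := (Finset.card_le_card hsub).trans (IsCyclic.card_pow_eq_one_le (orderOf_pos u))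
      rw [Finset.card_insert_of_notMem hnot, Finset.card_image_of_injective _ hinj,
        Finset.card_univ, ← Nat.card_eq_fintype_card, Nat.card_zpowers] at this
      omega
  have hB : B ≤ T.ker := fun b hb => by
    rw [MonoidHom.mem_ker, hT ⟨b, h.leB hb⟩, show h.proj ⟨b, h.leB hb⟩ = 1 from
      Subtype.ext (h.proj_eq (one_mem A) hb (one_mul b).symm), one_pow]
  have hall : ∀ g, T g = 1 := fun g => by
    have : g ∈ T.ker := Subgroup.normalClosure_le_normal hB (htop ▸ Subgroup.mem_top g)
    exact this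
  rw [eq_bot_iff]
  intro u hu
  have h1 := hT ⟨u, h.leA hu⟩
  rw [hall, show h.proj ⟨u, h.leA hu⟩ = ⟨u, hu⟩ from
    Subtype.ext (h.proj_eq hu (one_mem B) (mul_one u).symm)] at h1
  have h2 : orderOf (⟨u, hu⟩ : A) ∣ (P : Subgroup G).index := orderOf_dvd_of_pow_eq_one h1.symm
  obtain ⟨k, hk⟩ := h.isPGroup_of_mem (h.leA hu)
  rw [Subgroup.orderOf_mk, hk] at h2
  rcases k with _ | k
  · exact Subgroup.mem_bot.2 (orderOf_eq_one_iff.1 (by simpa using hk))
  · exact absurd ((dvd_pow_self 2 (by omega : k + 1 ≠ 0)).trans h2) P.not_dvd_index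

theorem Prod.swap (h : Prod P A B) : Prod P B A where
  clA := h.clB
  clB := h.clA
  comm := fun b hb a ha => (h.comm a ha b hb).symm
  disj := by rw [inf_comm]; exact h.disj
  sup := by rw [sup_comm]; exact h.sup

/-- The normal closure of one factor meets the Sylow subgroup in that factor. -/
theorem inf_normalClosure (h : Prod P A B) (D : Dih A R r s a)
    (hgen : B ≤ Subgroup.closure {b | b ∈ B ∧ orderOf b = 2}) :
    (P : Subgroup G) ⊓ Subgroup.normalClosure (B : Set G) = B := by
  classical
  haveI : Fact (Nat.Prime 2) := ⟨Nat.prime_two⟩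
  set K := Subgroup.normalClosure (B : Set G)
  have hBK : B ≤ K := Subgroup.le_normalClosure
  have hp : IsPGroup 2 ((P : Subgroup G).subgroupOf K) :=
    P.isPGroup'.comap_of_injective K.subtype Subtype.val_injective
  have hidx : ¬ 2 ∣ ((P : Subgroup G).subgroupOf K).index := Grp.sylow_inf_normal_relIndex P K
  let T : Sylow 2 K := hp.toSylow hidx
  have hTc : (T : Subgroup K) = (P : Subgroup G).subgroupOf K := IsPGroup.toSylow_coe _ _
  have hK : Prod T (A.subgroupOf K) (B.subgroupOf K) := h.sub K T hTc fun x hx hxP => by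
    obtain ⟨u, hu, v, hv, e⟩ := h.split hxP
    refine ⟨u, Subgroup.mem_inf.2 ⟨hu, ?_⟩, v, Subgroup.mem_inf.2 ⟨hv, hBK hv⟩, e⟩
    rw [show u = x * v⁻¹ by rw [e, mul_inv_cancel_right]]
    exact mul_mem hx (inv_mem (hBK hv))
  -- the closure in `K`
  have hclos : Subgroup.normalClosure ((B.subgroupOf K : Subgroup K) : Set K) = ⊤ := by
    set L := Subgroup.normalClosure ((B.subgroupOf K : Subgroup K) : Set K)
    have hle : ∀ g : G, ∀ b ∈ B, g * b * g⁻¹ ∈ L.map K.subtype := by
      intro g b hb
      have hgb : g * b * g⁻¹ ∈ K :=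
        Subgroup.Normal.conj_mem Subgroup.normalClosure_normal b (hBK hb) g
      obtain ⟨k, hk⟩ := h.isPGroup_of_mem (h.leB hb)
      have hQ : IsPGroup 2 (Subgroup.zpowers (⟨_, hgb⟩ : K)) := IsPGroup.of_card (n := k) (by
        rw [Nat.card_zpowers, Subgroup.orderOf_mk, orderOf_conj', hk])
      obtain ⟨d, hd⟩ := Invol.exists_conj_subset_sylow hQ T
      have hdb := hd _ (Subgroup.mem_zpowers _)
      have hdP : (d : G) * (g * b * g⁻¹) * (d : G)⁻¹ ∈ (P : Subgroup G) := by
        have := hTc.le hdb
        exact Subgroup.mem_subgroupOf.1 this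
      have hB' := h.memB hb ((d : G) * g) (by simpa [mul_assoc] using hdP)
      refine ⟨⟨_, hgb⟩, ?_, rfl⟩
      have hmem : d * (⟨_, hgb⟩ : K) * d⁻¹ ∈ L := Subgroup.subset_normalClosure (by
        refine Subgroup.mem_subgroupOf.2 ?_
        simpa [mul_assoc] using hB')
      have := (Subgroup.normalClosure_normal : L.Normal).conj_mem _ hmem d⁻¹
      simpa [mul_assoc] using this
    have hKL : K ≤ L.map K.subtype := by
      refine show Subgroup.closure (Group.conjugatesOfSet (B : Set G)) ≤ L.map K.subtype from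
        (Subgroup.closure_le _).2 fun x hx => ?_
      obtain ⟨b, hb, hc⟩ := Group.mem_conjugatesOfSet_iff.1 hx
      obtain ⟨g, rfl⟩ := isConj_iff.1 hc
      exact hle g b hb
    rw [eq_top_iff]
    intro x _
    obtain ⟨y, hy, e⟩ := hKL x.2
    rwa [← Subtype.ext e]
  have hgen' : B.subgroupOf K ≤ Subgroup.closure {b : K | b ∈ B.subgroupOf K ∧ orderOf b = 2} := by
    intro x hx
    have hx' : (x : G) ∈ Subgroup.closure {b | b ∈ B ∧ orderOf b = 2} :=
      hgen (Subgroup.mem_subgroupOf.1 hx)
    have hle : Subgroup.closure {b | b ∈ B ∧ orderOf b = 2} ≤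
        (Subgroup.closure {b : K | b ∈ B.subgroupOf K ∧ orderOf b = 2}).map K.subtype :=
      (Subgroup.closure_le _).2 fun b hb => ⟨⟨b, hBK hb.1⟩, Subgroup.subset_closure
        ⟨Subgroup.mem_subgroupOf.2 hb.1, by rw [Subgroup.orderOf_mk]; exact hb.2⟩, rfl⟩
    obtain ⟨y, hy, e⟩ := hle hx'
    rwa [← Subtype.ext e]
  have hA : A.subgroupOf K = ⊥ := by
    by_cases hc : ∀ x ∈ A, x ∈ K → x ∈ R
    · haveI : IsCyclic R := by rw [D.gen]; exact inferInstance
      let f : A.subgroupOf K →* R :=
        { toFun := fun x => ⟨((x : K) : G), hc _ (Subgroup.mem_subgroupOf.1 x.2) (x : K).2⟩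
          map_one' := rfl
          map_mul' := fun _ _ => rfl }
      haveI : IsCyclic (A.subgroupOf K) := isCyclic_of_injective f fun x y e =>
        Subtype.ext (Subtype.ext (congrArg (fun q : R => (q : G)) e))
      exact eq_bot_of_cyclic hK hclos
    · push Not at hc
      obtain ⟨s', hsA, hsK, hsR⟩ := hc
      have hs2 := D.sq_of_not_mem hsA hsR
      have hinv : ∀ x ∈ R, s' * x * s'⁻¹ = x⁻¹ := by
        intro x hx
        have hts := (D.cases s' hsA).resolve_left hsR
        have e : s' = s' * s * s := by rw [mul_assoc, D.s_sq, mul_one]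
        obtain ⟨i, hi⟩ := Subgroup.mem_zpowers_iff.1 ((le_of_eq D.gen) hts)
        obtain ⟨j, hj⟩ := Subgroup.mem_zpowers_iff.1 ((le_of_eq D.gen) hx)
        calc s' * x * s'⁻¹ = (s' * s) * (s * x * s⁻¹) * (s' * s)⁻¹ := by
              rw [inv_eq_of_mul_eq_one_right D.s_sq, mul_inv_rev,
                inv_eq_of_mul_eq_one_right D.s_sq]
              simp [mul_assoc, ← mul_assoc s s, D.s_sq]
          _ = x⁻¹ := by
              rw [D.inv x hx, ← hi, ← hj]
              exact mul_inv_eq_iff_eq_mul.2 ((Commute.zpow_zpow (Commute.refl r) i j).inv_right).eq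
      by_cases hR : ∀ x ∈ R, x ∈ K → x = 1
      · -- order two
        have htwo : ∀ x ∈ A, x ∈ K → x = 1 ∨ x = s' := by
          intro x hxA hxK
          by_cases hxR : x ∈ R
          · exact .inl (hR x hxR hxK)
          · refine .inr ?_
            have h1 := hR (x * s') ((D.mul_mem_iff hxA hsA).2 (iff_of_false hxR hsR))
              (mul_mem hxK hsK)
            rw [mul_eq_one_iff_eq_inv.1 h1, inv_eq_of_mul_eq_one_right hs2]
        haveI : IsCyclic (A.subgroupOf K) := by
          refine ⟨⟨⟨⟨s', hsK⟩, Subgroup.mem_subgroupOf.2 hsA⟩, fun x => ?_⟩⟩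
          rcases htwo _ (Subgroup.mem_subgroupOf.1 x.2) (x : K).2 with e | e
          · exact ⟨0, Subtype.ext (Subtype.ext (by simpa using e.symm))⟩
          · exact ⟨1, Subtype.ext (Subtype.ext (by simpa using e.symm))⟩
        exact eq_bot_of_cyclic hK hclos
      · push Not at hR
        obtain ⟨x, hxR, hxK, hx1⟩ := hR
        exfalso
        have haK : a ∈ K := D.pow_eq h hxR hx1 ▸ pow_mem hxK _
        haveI : IsCyclic R := by rw [D.gen]; exact inferInstance
        let f : ↥((R.subgroupOf K) ⊓ (A.subgroupOf K)) →* R :=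
          { toFun := fun x => ⟨((x : K) : G), Subgroup.mem_subgroupOf.1 (Subgroup.mem_inf.1 x.2).1⟩
            map_one' := rfl
            map_mul' := fun _ _ => rfl }
        haveI : IsCyclic (R.subgroupOf K ⊓ A.subgroupOf K : Subgroup K) :=
          isCyclic_of_injective f fun x y e =>
            Subtype.ext (Subtype.ext (congrArg (fun q : R => (q : G)) e))
        obtain ⟨g, hg⟩ := IsCyclic.exists_generator (α := (R.subgroupOf K ⊓ A.subgroupOf K : Subgroup K))
        have hDK : Dih (A.subgroupOf K) (R.subgroupOf K ⊓ A.subgroupOf K) (g : K) ⟨s', hsK⟩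
            ⟨a, haK⟩ :=
          { gen := le_antisymm (fun x hx => by
                obtain ⟨i, hi⟩ := Subgroup.mem_zpowers_iff.1 (hg ⟨x, hx⟩)
                exact Subgroup.mem_zpowers_iff.2 ⟨i, by simpa using congrArg Subtype.val hi⟩)
              (Subgroup.zpowers_le.2 g.2)
            le := inf_le_right
            s_mem := Subgroup.mem_subgroupOf.2 hsA
            s_not := fun e => hsR (Subgroup.mem_subgroupOf.1 (Subgroup.mem_inf.1 e).1)
            s_sq := Subtype.ext hs2
            inv := fun x hx => Subtype.ext (by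
              simpa using hinv x (Subgroup.mem_subgroupOf.1 (Subgroup.mem_inf.1 hx).1))
            cases := fun x hx => by
              have hxA := Subgroup.mem_subgroupOf.1 hx
              by_cases hxR : (x : G) ∈ R
              · exact .inl (Subgroup.mem_inf.2 ⟨Subgroup.mem_subgroupOf.2 hxR, hx⟩)
              · exact .inr (Subgroup.mem_inf.2 ⟨Subgroup.mem_subgroupOf.2
                  ((D.mul_mem_iff hxA hsA).2 (iff_of_false hxR hsR)),
                  mul_mem hx (Subgroup.mem_subgroupOf.2 hsA)⟩)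
            a_mem := Subgroup.mem_inf.2 ⟨Subgroup.mem_subgroupOf.2 D.a_mem,
              Subgroup.mem_subgroupOf.2 (D.le D.a_mem)⟩
            a_ord := by rw [Subgroup.orderOf_mk]; exact D.a_ord }
        exact normalClosure_ne_top hK hDK hgen' hclos
  apply le_antisymm
  · intro x hx
    obtain ⟨hxP, hxK⟩ := Subgroup.mem_inf.1 hx
    obtain ⟨u, hu, v, hv, e⟩ := h.split hxP
    have huK : u ∈ K := by
      rw [show u = x * v⁻¹ by rw [e, mul_inv_cancel_right]]
      exact mul_mem hxK (inv_mem (hBK hv))
    have : (⟨u, huK⟩ : K) ∈ A.subgroupOf K := Subgroup.mem_subgroupOf.2 hu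
    rw [hA, Subgroup.mem_bot] at this
    rw [e, show u = 1 from congrArg Subtype.val this, one_mul]
    exact hv
  · exact le_inf h.leB hBK

end Cfsg.Agent.ProdFus
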