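import Cfsg.Agent.Lib.Transfer.Product.Average

/-!
# Products of two involutions
-/

open scoped ComplexConjugate

set_option linter.unusedSectionVars false
set_option linter.style.haveILetI false

namespace Cfsg.Agent.ProdFus

open Cfsg Cfsg.Agent.Block

universe u

variable {G : Type u} [Group G] [Finite G] {P : Sylow 2 G} {A B R : Subgroup G} {r s a : G}

theorem orderOf_conj' (k x : G) : orderOf (k * x * k⁻¹) = orderOf x :=
  MulEquiv.orderOf_eq (MulAut.conj k) x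

/-- A product of two involutions moved into the Sylow subgroup. -/
theorem pair_move (P : Sylow 2 G) {x y : G} (hx : orderOf x = 2) (hy : orderOf y = 2) :
    ∃ k d : G, ∃ b i : ℕ, Odd b ∧ d * y * d⁻¹ = x * (x * y) ^ b ∧
      k * x * k⁻¹ ∈ (P : Subgroup G) ∧ k * (d * y * d⁻¹) * k⁻¹ ∈ (P : Subgroup G) ∧
      k * tp (x * y) * k⁻¹ = (k * x * k⁻¹ * (k * (d * y * d⁻¹) * k⁻¹)) ^ i ∧
      (k * x * k⁻¹ * (k * (d * y * d⁻¹) * k⁻¹)) ^ (i * b) =
        k * x * k⁻¹ * (k * (d * y * d⁻¹) * k⁻¹) := by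
  haveI : Fact (Nat.Prime 2) := ⟨Nat.prime_two⟩
  obtain ⟨e, b, hb, hab⟩ := Nat.exists_eq_two_pow_mul_odd (orderOf_pos (x * y)).ne'
  obtain ⟨d, -, hd, hord⟩ := Invol.exists_conj_two_part hx hy hab hb
  have hy' : orderOf (d * y * d⁻¹) = 2 := by rw [orderOf_conj', hy]
  have hxy' : x * (d * y * d⁻¹) = (x * y) ^ b := by
    rw [hd, ← mul_assoc, Invol.mul_self_of_orderOf_two hx, one_mul]
  have hQ := Invol.isPGroup_closure_pair hx hy' (a := e) (by rw [hxy']; exact hord)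
  obtain ⟨k, hk⟩ := Invol.exists_conj_subset_sylow hQ P
  obtain ⟨n, hn, hc, ⟨j, hj⟩, hn2, hzg, hng⟩ := tp_spec (x * y)
  have hnb : n ^ b = 1 := by
    refine orderOf_dvd_iff_pow_eq_one.1 ((Nat.Coprime.dvd_mul_left
      (Nat.Coprime.pow_right e (Nat.prime_two.coprime_iff_not_dvd.2 hn2).symm)).1 ?_)
    rw [← hab]
    exact orderOf_dvd_of_mem_zpowers hng
  have hw : tp (x * y) ^ b = (x * y) ^ b := by
    conv_rhs => rw [← hn, hc.mul_pow, hnb, mul_one]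
  have hcop : b.Coprime (orderOf (tp (x * y))) := by
    rw [hj]
    exact Nat.Coprime.pow_right j (Nat.coprime_two_right.2 hb)
  obtain ⟨i, hi⟩ := exists_pow_eq_self_of_coprime hcop
  have e1 : k * x * k⁻¹ * (k * (d * y * d⁻¹) * k⁻¹) = k * tp (x * y) ^ b * k⁻¹ := by
    rw [hw, ← hxy']; group
  refine ⟨k, d, b, i, hb, hd, hk _ Invol.left_mem_closure_pair,
    hk _ Invol.right_mem_closure_pair, ?_, ?_⟩
  · rw [e1, conj_pow, hi]
  · rw [e1, conj_pow, pow_mul, hi]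

section

variable (h : Prod P A B) (D : Dih A R r s a)
include h D

/-- A commuting product of a conjugate of `a` in `A` with an involution of `B` or `1`, times an
involution conjugate into `B`. -/
theorem pair_mixed {α β y : G} (hα : α ∈ A) (hα2 : orderOf α = 2)
    (hαa : ∃ c, c * α * c⁻¹ = a) (hβ : β ∈ B) (hx : orderOf (α * β) = 2) {g b₀ : G} (hb₀ : b₀ ∈ B)
    (hy : y = g * b₀ * g⁻¹) (hy2 : orderOf y = 2) :
    ∃ k α' β', α' ∈ A ∧ β' ∈ B ∧ (∃ c, c * α' * c⁻¹ = a) ∧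
      k * tp (α * β * y) * k⁻¹ = α' * β' := by
  obtain ⟨k, d, b, i, hb, hd, hkx, hky, htp, hib⟩ := pair_move P hx hy2
  obtain ⟨α₁, hα₁, β₁, hβ₁, e⟩ := h.split hkx
  obtain ⟨c, hc, -⟩ := h.split_conj hα hα₁ hβ hβ₁ e
  have hyB : k * (d * y * d⁻¹) * k⁻¹ ∈ B := by
    have hh := h.memB hb₀ (k * d * g)
      (by subst hy; simpa [mul_assoc] using hky)
    subst hy
    simpa [mul_assoc] using hh
  obtain ⟨c₀, hc₀⟩ := hαa
  have hconj : ∃ c', c' * α₁ * c'⁻¹ = a := ⟨c₀ * c⁻¹, by rw [← hc, ← hc₀]; group⟩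
  set β₂ := β₁ * (k * (d * y * d⁻¹) * k⁻¹) with hβ₂
  have hβ₂B : β₂ ∈ B := mul_mem hβ₁ hyB
  have ew : k * (α * β) * k⁻¹ * (k * (d * y * d⁻¹) * k⁻¹) = α₁ * β₂ := by
    rw [e, mul_assoc]
  rw [ew] at htp hib
  have hcm := h.comm α₁ hα₁ β₂ hβ₂B
  rw [hcm.mul_pow] at htp hib
  refine ⟨k, α₁ ^ i, β₂ ^ i, pow_mem hα₁ i, pow_mem hβ₂B i, ?_, htp⟩
  have h1 : α₁ ^ (i * b) = α₁ :=
    (h.uniq (pow_mem hα₁ _) hα₁ (pow_mem hβ₂B _) hβ₂B hib).1
  have hα₁2 : orderOf α₁ = 2 := by rw [← hc, orderOf_conj', hα2]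
  have h2 : α₁ ^ i = α₁ := by
    rw [← pow_mod_orderOf, hα₁2]
    rcases Nat.mod_two_eq_zero_or_one i with ei | ei <;> rw [ei]
    · exfalso
      obtain ⟨l, rfl⟩ : 2 ∣ i := Nat.dvd_of_mod_eq_zero ei
      rw [mul_assoc, pow_mul, ← hα₁2, pow_orderOf_eq_one, one_pow] at h1
      exact Invol.ne_one_of_orderOf_two hα₁2 h1.symm
    · exact pow_one _
  rw [h2]
  exact hconj

omit D in
/-- Two involutions conjugate into `B`. -/
theorem pair_B {g g' b₁ b₂ : G} (hb₁ : b₁ ∈ B) (hb₂ : b₂ ∈ B) (h₁ : orderOf b₁ = 2)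
    (h₂ : orderOf b₂ = 2) :
    ∃ k, k * tp (g * b₁ * g⁻¹ * (g' * b₂ * g'⁻¹)) * k⁻¹ ∈ B := by
  obtain ⟨k, d, b, i, hb, hd, hkx, hky, htp, -⟩ :=
    pair_move P (x := g * b₁ * g⁻¹) (y := g' * b₂ * g'⁻¹)
      (by rw [orderOf_conj', h₁]) (by rw [orderOf_conj', h₂])
  refine ⟨k, htp ▸ pow_mem (mul_mem ?_ ?_) i⟩
  · have := h.memB hb₁ (k * g) (by simpa [mul_assoc] using hkx)
    simpa [mul_assoc] using this
  · have := h.memB hb₂ (k * d * g') (by simpa [mul_assoc] using hky)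
    simpa [mul_assoc] using this

/-- In the principal block a product of `a` with a conjugate of an involution of `B` takes the
value of a commuting product. -/
theorem pair_value [Fintype G] {M : Ideal AlgInt} (hM : IsPModular 2 M) {g b₀ : G} (hb₀ : b₀ ∈ B)
    (hb2 : orderOf b₀ = 2) :
    ∃ α β, α ∈ A ∧ β ∈ B ∧ orderOf α = 2 ∧ (∃ c, c * α * c⁻¹ = a) ∧ orderOf (α * β) = 2 ∧
      ∀ χ ∈ principalBlock M G,
        ((χ : IrrCharacter G) : G → ℂ) (a * (g * b₀ * g⁻¹)) = (χ : G → ℂ) (α * β) := by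
  haveI : Fact (Nat.Prime 2) := ⟨Nat.prime_two⟩
  have hy2 : orderOf (g * b₀ * g⁻¹) = 2 := by rw [orderOf_conj', hb2]
  obtain ⟨k, d, b, i, hb, hd, hkx, hky, -, -⟩ := pair_move P D.a_ord hy2
  have hαA : k * a * k⁻¹ ∈ A := h.memA (D.le D.a_mem) k hkx
  have hβB : k * (d * (g * b₀ * g⁻¹) * d⁻¹) * k⁻¹ ∈ B := by
    have := h.memB hb₀ (k * d * g) (by simpa [mul_assoc] using hky)
    simpa [mul_assoc] using this
  set x := k * a * k⁻¹ with hxdef
  set y := k * (g * b₀ * g⁻¹) * k⁻¹ with hydef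
  set β := k * (d * (g * b₀ * g⁻¹) * d⁻¹) * k⁻¹ with hβdef
  have hx2 : orderOf x = 2 := by rw [hxdef, orderOf_conj', D.a_ord]
  have hy2' : orderOf y = 2 := by rw [hydef, orderOf_conj', hy2]
  have hβ2 : orderOf β = 2 := by rw [hβdef, orderOf_conj', orderOf_conj', hy2]
  have hcm := h.comm x hαA β hβB
  have hxx := Invol.mul_self_of_orderOf_two hx2
  have hne : x * β ≠ 1 := fun e => by
    have hxB : x ∈ B := by
      rw [mul_eq_one_iff_eq_inv.1 e]; exact inv_mem hβB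
    have hx1 : x ∈ A ⊓ B := Subgroup.mem_inf.2 ⟨hαA, hxB⟩
    rw [h.disj, Subgroup.mem_bot] at hx1
    exact Invol.ne_one_of_orderOf_two hx2 hx1
  have hw2 : orderOf (x * β) = 2 := orderOf_eq_prime (by
    rw [hcm.mul_pow, pow_two, pow_two, hxx, Invol.mul_self_of_orderOf_two hβ2, one_mul]) hne
  refine ⟨x, β, hαA, hβB, hx2, ⟨k⁻¹, by rw [hxdef]; group⟩, hw2, fun χ hχ => ?_⟩
  have hβe : β = x * (x * y) ^ b := by
    rw [hβdef, hd, hxdef, hydef, show k * a * k⁻¹ * (k * (g * b₀ * g⁻¹) * k⁻¹) =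
      k * (a * (g * b₀ * g⁻¹)) * k⁻¹ by group, conj_pow]
    group
  have hw : x * β = (x * y) ^ b := by rw [hβe, ← mul_assoc, hxx, one_mul]
  set z := x * β with hzdef
  have hxz : Commute x z := (Commute.refl x).mul_right hcm
  have hyz : Commute y z := by
    have h1 : Commute (x * y) z := by rw [hw]; exact (Commute.refl _).pow_right b
    have h2 := hxz.mul_left h1
    rwa [← mul_assoc, hxx, one_mul] at h2
  set H := Subgroup.centralizer ({z} : Set G) with hH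
  let X : H := ⟨x, Subgroup.mem_centralizer_singleton_iff.2 hxz.eq⟩
  let Y : H := ⟨y, Subgroup.mem_centralizer_singleton_iff.2 hyz.eq⟩
  have hI : IsIsolatedInvolution X := by
    refine ⟨by rw [Subgroup.orderOf_mk]; exact hx2, fun q hq => Subtype.ext ?_⟩
    exact h.isolated_invol hαA hβB hx2
      (mul_inv_eq_iff_eq_mul.2 (Subgroup.mem_centralizer_singleton_iff.1 q.2))
      (hq.map H.subtype)
  have hcomm := ZStar.commutator_mem_oddCore _ H rfl X hI Y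
  obtain ⟨j, hj⟩ := hb
  set s' : H := ((X * Y * X⁻¹ * Y⁻¹) ^ j)⁻¹
  have hcs : ((X * Y * X⁻¹ * Y⁻¹ : H) : G) = (x * y) ^ 2 := by
    simp only [X, Y, Subgroup.coe_mul, Subgroup.coe_inv, Invol.inv_of_orderOf_two hx2,
      Invol.inv_of_orderOf_two hy2', pow_two, mul_assoc]
  have hsG : (s' : G) = ((x * y) ^ (2 * j))⁻¹ := by
    simp only [s', Subgroup.coe_inv, Subgroup.coe_pow, hcs, ← pow_mul]
  have hval := value_shift hM (z := z) ⟨1, by rw [hw2, pow_one]⟩ (n := 1) (o := s')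
    (by simp) (inv_mem (pow_mem hcomm j)) hχ
  rw [OneMemClass.coe_one, one_mul, mul_one] at hval
  rw [← hval, hsG, hw, hj, pow_succ', mul_inv_cancel_right, hxdef, hydef,
    show k * a * k⁻¹ * (k * (g * b₀ * g⁻¹) * k⁻¹) = k * (a * (g * b₀ * g⁻¹)) * k⁻¹ by group]
  exact (irr_classFun χ _ k).symm

end

end Cfsg.Agent.ProdFus
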