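import Cfsg.Agent.Lib.Transfer.Product.Gamma
import Cfsg.Agent.Lib.Transfer.Product.Pairs
import Cfsg.Agent.Lib.Block.ClassMul

/-!
# A principal character trivial on the involutions of `B`
-/

open scoped ComplexConjugate

set_option linter.unusedSectionVars false
set_option linter.style.haveILetI false

namespace Cfsg.Agent.ProdFus

open Cfsg Cfsg.Agent.Block

universe u

variable {G : Type u} [Group G] [Finite G] {P : Sylow 2 G} {A B R : Subgroup G} {r s a : G}

/-- At most three characters cannot carry the moments. -/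
theorem exists_zero_moment {ι : Type*} (S : Finset ι) (t w d : ι → ℂ) (hcard : S.card ≤ 3)
    (ht : ∑ i ∈ S, t i = 3) (ht1 : ∑ i ∈ S, t i * d i = 0) (ht2 : ∑ i ∈ S, t i * d i ^ 2 = 0)
    (hw : ∑ i ∈ S, w i = 0) (hw1 : ∑ i ∈ S, w i * d i = 0) (hw2 : ∑ i ∈ S, w i * d i ^ 2 = 0)
    (hw0 : ∀ i ∈ S, w i ≠ 0) : ∃ i ∈ S, d i = 0 := by
  classical
  by_contra hno
  push Not at hno
  have hne : S.Nonempty := Finset.nonempty_of_sum_ne_zero (by rw [ht]; norm_num : ∑ i ∈ S, t i ≠ 0)
  obtain ⟨i, hi⟩ := hne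
  -- two values covering the others
  obtain ⟨j, hj, k, hk, hcov⟩ : ∃ j ∈ S, ∃ k ∈ S, ∀ l ∈ S, l = i ∨ l = j ∨ l = k := by
    have h2 : (S.erase i).card ≤ 2 := by rw [Finset.card_erase_of_mem hi]; omega
    rcases Nat.lt_or_ge (S.erase i).card 2 with h | h
    · rcases (S.erase i).eq_empty_or_nonempty with he | ⟨j, hj⟩
      · refine ⟨i, hi, i, hi, fun l hl => .inl (by_contra fun hl' => ?_)⟩
        exact Finset.notMem_empty l (he ▸ Finset.mem_erase.2 ⟨hl', hl⟩)
      · refine ⟨j, Finset.mem_of_mem_erase hj, j, Finset.mem_of_mem_erase hj, fun l hl => ?_⟩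
        by_cases hl' : l = i
        · exact .inl hl'
        · exact .inr (.inl (Finset.card_le_one.1 (by omega) l (Finset.mem_erase.2 ⟨hl', hl⟩) j hj))
    · obtain ⟨j, k, -, e⟩ := Finset.card_eq_two.1 (le_antisymm h2 h)
      refine ⟨j, Finset.mem_of_mem_erase (e ▸ Finset.mem_insert_self j {k}), k,
        Finset.mem_of_mem_erase (s := S) (a := i) (e ▸ by simp), fun l hl => ?_⟩
      by_cases hl' : l = i
      · exact .inl hl'
      · have : l ∈ S.erase i := Finset.mem_erase.2 ⟨hl', hl⟩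
        rw [e] at this
        simpa using Or.inr (a := l = i) this
  have hpoly : ∀ (f : ι → ℂ) (p q : ℂ), ∑ l ∈ S, f l * ((d l - p) * (d l - q)) =
      ∑ l ∈ S, f l * d l ^ 2 - (p + q) * ∑ l ∈ S, f l * d l + p * q * ∑ l ∈ S, f l := by
    intro f p q
    rw [Finset.mul_sum, Finset.mul_sum, ← Finset.sum_sub_distrib, ← Finset.sum_add_distrib]
    exact Finset.sum_congr rfl fun l _ => by ring
  by_cases hdi : d i = d j ∨ d i = d k
  · have hz : ∑ l ∈ S, t l * ((d l - d j) * (d l - d k)) = 0 := Finset.sum_eq_zero fun l hl => by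
      rcases hcov l hl with rfl | rfl | rfl
      · rcases hdi with e | e <;> simp [e]
      · simp
      · simp
    rw [hpoly, ht, ht1, ht2] at hz
    simp only [mul_zero, sub_zero, zero_add, mul_eq_zero] at hz
    rcases hz with (h | h) | h
    · exact hno j hj h
    · exact hno k hk h
    · norm_num at h
  · push Not at hdi
    have hz : ∑ l ∈ S, w l * ((d l - d j) * (d l - d k)) =
        w i * ((d i - d j) * (d i - d k)) :=
      Finset.sum_eq_single i (fun l hl hli => by
        rcases hcov l hl with e | rfl | rfl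
        · exact absurd e hli
        · simp
        · simp) fun h => absurd hi h
    rw [hpoly, hw, hw1, hw2] at hz
    simp only [mul_zero, sub_zero, add_zero] at hz
    exact mul_ne_zero (hw0 i hi) (mul_ne_zero (sub_ne_zero.2 hdi.1) (sub_ne_zero.2 hdi.2)) hz.symm

/-- A nontrivial character of the principal block is trivial on all involutions of `B`. -/
theorem exists_char_ker [Fintype G] (h : Prod P A B) (D : Dih A R r s a)
    (J : Finset G) (hJ : ∀ b ∈ J, b ∈ B ∧ orderOf b = 2) (hJne : J.Nonempty) :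
    ∃ χ : IrrCharacter G, χ ≠ trivialIrr G ∧ ∀ b ∈ J, (χ : G → ℂ) b = (χ : G → ℂ) 1 := by
  classical
  haveI : Fact (Nat.Prime 2) := ⟨Nat.prime_two⟩
  obtain ⟨M, hM⟩ := Cfsg.Agent.Char.exists_isPModular 2 Nat.prime_two
  set C := Subgroup.centralizer ({a} : Set G) with hC
  letI := Fintype.ofFinite C
  obtain ⟨γ, hγc, hγn, hγ0, hγ4, hγint, hγ1, hγnorm⟩ := exists_gamma h D C hC
  let γ₀ : G → ℂ := fun x => if hx : x ∈ C then γ ⟨x, hx⟩ else 0
  have hγ₀ : ∀ x : C, γ₀ x = γ x := fun x => by simp [γ₀]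
  let F : G → ℂ := fun g =>
    if hz : ∃ z' c : G, GoodC R B a z' ∧ c * tp g * c⁻¹ = z' then γ₀ hz.choose else 0
  have hgc : ∀ z, GoodC R B a z → z ∈ C := fun z hz =>
    Subgroup.mem_centralizer_singleton_iff.2 (hz.commute h D).symm.eq
  have hFval : ∀ g z c, GoodC R B a z → c * tp g * c⁻¹ = z → F g = γ₀ z := by
    intro g z c hz e
    have hex : ∃ z' c : G, GoodC R B a z' ∧ c * tp g * c⁻¹ = z' := ⟨z, c, hz, e⟩
    show (if hz : (∃ z' c : G, GoodC R B a z' ∧ c * tp g * c⁻¹ = z') then γ₀ hz.choose else 0) = _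
    rw [dif_pos hex]
    obtain ⟨c', hz', e'⟩ := hex.choose_spec
    obtain ⟨d, hd, hde⟩ := GoodC.conj h D hz' hz (g := c * c'⁻¹) (by
      rw [← e', ← e]; group)
    have h1 := hγc ⟨hex.choose, hgc _ hz'⟩ ⟨d, Subgroup.mem_centralizer_singleton_iff.2 hd.eq⟩
    rw [← hγ₀, ← hγ₀] at h1
    simp only [Subgroup.coe_mul, Subgroup.coe_inv, hde] at h1
    exact h1.symm
  have hF0 : ∀ g, ¬ Good R B (tp g) → F g = 0 := by
    intro g hg
    show (if hz : (∃ z' c : G, GoodC R B a z' ∧ c * tp g * c⁻¹ = z') then γ₀ hz.choose else 0) = _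
    rw [dif_neg]
    rintro ⟨z, c, hz, e⟩
    obtain ⟨c₁, u, v, -, hu, hu1, hv, rfl⟩ := hz
    exact hg ⟨c⁻¹ * c₁, u, v, hu, hu1, hv, by
      calc tp g = c⁻¹ * (c * tp g * c⁻¹) * c := by group
        _ = _ := by rw [e]; group⟩
  have hFA : ∀ g k α β, α ∈ A → β ∈ B → (∃ c, c * α * c⁻¹ = a) →
      k * tp g * k⁻¹ = α * β → F g = 4 := by
    rintro g k α β hα hβ ⟨c, hc⟩ e
    obtain ⟨d, v', hv', hd1, hd2⟩ := h.conj_to_central hα hβ (D.le D.a_mem) D.a_central hc
    have hz : GoodC R B a (a * v') := ⟨1, a, v', Commute.one_left a, D.a_mem,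
      Invol.ne_one_of_orderOf_two D.a_ord, hv', by simp⟩
    rw [hFval g (a * v') (d * k) hz (by
      calc d * k * tp g * (d * k)⁻¹ = d * (k * tp g * k⁻¹) * d⁻¹ := by group
        _ = (d * α * d⁻¹) * (d * β * d⁻¹) := by rw [e]; group
        _ = _ := by rw [hd1, hd2])]
    exact (hγ₀ ⟨_, hgc _ hz⟩).trans (hγ4 v' hv' ⟨_, hgc _ hz⟩ rfl)
  have hFB : ∀ g k, k * tp g * k⁻¹ ∈ B → F g = 0 := by
    intro g k hk
    refine hF0 g ?_
    rintro ⟨c, u, v, hu, hu1, hv, e⟩
    obtain ⟨d, hd, -⟩ := h.split_conj (D.le hu) (one_mem A) hv hk (g := k * c) (by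
      rw [one_mul, e]; group)
    exact hu1 (conj_eq_one_iff.1 hd)
  have hFtp : ∀ g g', tp g = tp g' → F g = F g' := fun g g' e => by simp only [F, e]
  have hFcls : IsClassFunction G F := by
    intro g c
    by_cases hg : Good R B (tp g)
    · obtain ⟨c₁, u, v, hu, hu1, hv, e⟩ := hg
      have hz : GoodC R B a (u * v) := ⟨1, u, v, Commute.one_left a, hu, hu1, hv, by simp⟩
      rw [hFval g (u * v) c₁⁻¹ hz (by rw [e]; group),
        hFval (c * g * c⁻¹) (u * v) (c₁⁻¹ * c⁻¹) hz (by rw [tp_conj, e]; group)]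
    · rw [hF0 g hg, hF0]
      rintro ⟨c₁, u, v, hu, hu1, hv, e⟩
      exact hg ⟨c⁻¹ * c₁, u, v, hu, hu1, hv, by
        rw [tp_conj] at e
        calc tp g = c⁻¹ * (c * tp g * c⁻¹) * c := by group
          _ = _ := by rw [e]; group⟩
  have hFinv : ∀ z, Good R B z → ∀ n : G, Commute n z → ¬ 2 ∣ orderOf n → F (z * n) = F z := by
    intro z hz n hn hn2
    exact hFtp _ _ (by rw [tp_mul (hz.isTwo h D) hn2 hn.symm, tp_self (hz.isTwo h D)])
  -- on the centralizer
  have hFC : ∀ x : C, (if GoodC R B a (tp (x : G)) ∧ Commute (x : G) a then F x else 0) = γ x := by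
    intro x
    have hxa : Commute (x : G) a := Subgroup.mem_centralizer_singleton_iff.1 x.2
    obtain ⟨n, hn, hc, hz2, hn2, hzx, hnx⟩ := tp_spec (x : G)
    let zC : C := ⟨tp (x : G), (Subgroup.zpowers_le.2 x.2) hzx⟩
    let nC : C := ⟨n, (Subgroup.zpowers_le.2 x.2) hnx⟩
    have hxe : x = zC * nC := Subtype.ext hn.symm
    have hγx : γ x = γ zC := by
      rw [hxe]
      exact hγn zC nC (Subtype.ext hc.eq) (by rwa [Subgroup.orderOf_mk])
    by_cases hg : GoodC R B a (tp (x : G))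
    · rw [if_pos ⟨hg, hxa⟩, hFval (x : G) _ 1 hg (by simp), hγx]
      exact hγ₀ zC
    · rw [if_neg fun e => hg e.1, hγx]
      obtain ⟨k, hk⟩ := hz2
      have hPC := (le_centralizer_a h D).trans hC.ge
      obtain ⟨c, hc'⟩ := Invol.exists_conj_subset_sylow (H := Subgroup.zpowers zC)
        (IsPGroup.of_card (n := k) (by rw [Nat.card_zpowers, Subgroup.orderOf_mk, hk]))
        (P.subtype hPC)
      have hcz := Subgroup.mem_subgroupOf.1 (hc' zC (Subgroup.mem_zpowers zC))
      obtain ⟨u, hu, v, hv, e⟩ := h.split hcz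
      have hcase : u ∉ R ∨ u = 1 := by
        by_contra hh
        push Not at hh
        exact hg ⟨(c : G)⁻¹, u, v, (show Commute (c : G) a from
          Subgroup.mem_centralizer_singleton_iff.1 c.2).inv_left, hh.1, hh.2, hv, by
          rw [← e, Subgroup.coe_mul, Subgroup.coe_mul, Subgroup.coe_inv]; group; rfl⟩
      have := hγ0 u hu v hv hcase (c * zC * c⁻¹) e
      rw [hγc] at this
      exact this.symm
  have hG0 : (Nat.card G : ℂ) ≠ 0 := Nat.cast_ne_zero.2 Nat.card_pos.ne'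
  have hC0 : (Nat.card C : ℂ) ≠ 0 := Nat.cast_ne_zero.2 Nat.card_pos.ne'
  have htransfer : ∀ ψ : G → ℂ, IsClassFunction G ψ →
      (∀ z, Good R B z → ∀ n o : Subgroup.centralizer ({z} : Set G), ¬ 2 ∣ orderOf n →
        o ∈ pPrimeCore 2 (Subgroup.centralizer ({z} : Set G)) →
          ψ (z * ((n : G) * (o : G))) = ψ (z * (n : G))) →
      classInner F ψ = classInner γ (fun x : C => ψ x) := by
    intro ψ hψ hψi
    let Φ : G → ℂ := fun g => F g * conj (ψ g)
    have h1 := sum_sections_eq h D Φ (fun g c => by simp only [Φ, hFcls g c, hψ g c])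
      (fun z hz n o hn ho => by
        simp only [Φ]
        rw [hψi z hz n o hn ho]
        congr 1
        have hcn : ∀ q : Subgroup.centralizer ({z} : Set G), Commute (q : G) z := fun q =>
          Subgroup.mem_centralizer_singleton_iff.1 q.2
        rw [← Subgroup.coe_mul, hFinv z hz _ (hcn _) (by
            rw [Subgroup.orderOf_coe]; exact odd_mul_core hn ho),
          hFinv z hz _ (hcn _) (by rwa [Subgroup.orderOf_coe])])
    have hl : ∑ g : G, (if Good R B (tp g) then Φ g else 0) = ∑ g : G, Φ g :=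
      Finset.sum_congr rfl fun g _ => by
        split_ifs with hh
        · rfl
        · simp only [Φ, hF0 g hh, zero_mul]
    have hr : ∑ g : G, (if GoodC R B a (tp g) ∧ Commute g a then Φ g else 0) =
        ∑ x : C, γ x * conj (ψ x) := by
      rw [← Finset.sum_subset (Finset.subset_univ (Finset.univ.filter (· ∈ C)))
        (fun g _ hg => if_neg fun hh => hg (Finset.mem_filter.2 ⟨Finset.mem_univ _,
          Subgroup.mem_centralizer_singleton_iff.2 hh.2.eq⟩)),
        Finset.sum_subtype (p := fun g => g ∈ C) (Finset.univ.filter (· ∈ C)) (fun g => by simp)]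
      refine Finset.sum_congr rfl fun x _ => ?_
      rw [← hFC x]
      split_ifs <;> simp [Φ]
    rw [hl, hr] at h1
    rw [classInner, classInner]
    show _ * ∑ g, Φ g = _
    field_simp
    linear_combination h1
  let m : IrrCharacter G → ℂ := fun χ => classInner F (χ : G → ℂ)
  have hshift : ∀ χ ∈ principalBlock M G, ∀ z, Good R B z →
      ∀ n o : Subgroup.centralizer ({z} : Set G), ¬ 2 ∣ orderOf n →
      o ∈ pPrimeCore 2 (Subgroup.centralizer ({z} : Set G)) →
      ((χ : IrrCharacter G) : G → ℂ) (z * ((n : G) * (o : G))) = (χ : G → ℂ) (z * (n : G)) :=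
    fun χ hχ z hz n o hn ho => value_shift hM (hz.isTwo h D) hn ho hχ
  have hout : ∀ χ : IrrCharacter G, χ ∉ principalBlock M G → m χ = 0 := by
    intro χ hχ
    have e : ∑ g : G, F g * conj ((χ : G → ℂ) g) =
        ∑ g : G, (if Good R B (tp g) then F g * conj ((χ : G → ℂ) g) else 0) :=
      Finset.sum_congr rfl fun g _ => by
        split_ifs with hh
        · rfl
        · rw [hF0 g hh, zero_mul]
    show _ * _ = (0 : ℂ)
    rw [e, sum_eq_sum_sections _ _ fun z hz => Good.isTwo h D hz]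
    refine mul_eq_zero_of_right _ (Finset.sum_eq_zero fun z hz => ?_)
    have hzg := (Finset.mem_filter.1 hz).2
    have h0 := congrArg (starRingEnd ℂ) (section_zero hM (hzg.isTwo h D) hχ)
    rw [map_sum, map_zero] at h0
    refine Eq.trans ?_ ((congrArg (F z * ·) h0).trans (mul_zero _))
    rw [Finset.mul_sum]
    refine Finset.sum_congr rfl fun n _ => ?_
    split_ifs with hh
    · rw [hFinv z hzg n hh.1 hh.2]
    · simp
  have hint : ∀ χ : IrrCharacter G, ∃ n : ℤ, m χ = n := by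
    intro χ
    by_cases hχ : χ ∈ principalBlock M G
    · obtain ⟨n, hn⟩ := hγint _ (irr_isChar χ)
      exact ⟨n, by rw [← hn]; exact htransfer _ (irr_classFun χ) (hshift χ hχ)⟩
    · exact ⟨0, by rw [hout χ hχ]; simp⟩
  have htriv : ∀ g : G, ((trivialIrr G : IrrCharacter G) : G → ℂ) g = 1 := fun _ => rfl
  have hm1 : m (trivialIrr G) = 1 := by
    show classInner F _ = 1
    rw [htransfer _ (irr_classFun _) (hshift _ (trivial_mem_principalBlock hM))]
    exact hγ1
  have hexp : ∀ g, F g = ∑ χ : IrrCharacter G, m χ * (χ : G → ℂ) g := by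
    intro g
    have := congrFun (Cfsg.Agent.Char.classFunction_expansion hFcls) g
    simpa [m] using this
  have hnorm : (∑ χ : IrrCharacter G, m χ * conj (m χ)).re ≤ 4 := by
    have e : ∑ χ : IrrCharacter G, m χ * conj (m χ) = classInner F F := by
      symm
      calc classInner F F
          = (Nat.card G : ℂ)⁻¹ * ∑ g : G, (∑ χ : IrrCharacter G, m χ * (χ : G → ℂ) g) * conj (F g) := by
            simp only [classInner, ← hexp]
        _ = ∑ χ : IrrCharacter G, m χ * ((Nat.card G : ℂ)⁻¹ * ∑ g : G, (χ : G → ℂ) g * conj (F g)) := by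
            simp only [Finset.sum_mul, Finset.mul_sum]
            rw [Finset.sum_comm]
            exact Finset.sum_congr rfl fun χ _ => Finset.sum_congr rfl fun g _ => by ring
        _ = _ := Finset.sum_congr rfl fun χ _ => by
            show _ = m χ * conj (classInner F (χ : G → ℂ))
            rw [Cfsg.Agent.Char.classInner_conj_symm]; rfl
    rw [e, htransfer F hFcls fun z hz n o hn ho => ?_]
    · refine le_of_eq_of_le ?_ hγnorm
      unfold classInner
      congr 2
      refine Finset.sum_congr rfl fun x _ => ?_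
      have hx := hFC x
      by_cases hg : GoodC R B a (tp (x : G))
      · rw [if_pos ⟨hg, Subgroup.mem_centralizer_singleton_iff.1 x.2⟩] at hx
        show γ x * conj (F x) = _
        rw [hx]
      · rw [if_neg fun e => hg e.1] at hx
        rw [← hx, zero_mul, zero_mul]
    · have hcn : ∀ q : Subgroup.centralizer ({z} : Set G), Commute (q : G) z := fun q =>
        Subgroup.mem_centralizer_singleton_iff.1 q.2
      rw [← Subgroup.coe_mul, hFinv z hz _ (hcn _) (by
          rw [Subgroup.orderOf_coe]; exact odd_mul_core hn ho),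
        hFinv z hz _ (hcn _) (by rwa [Subgroup.orderOf_coe])]
  -- the values
  have hF1 : F 1 = 0 := hFB 1 1 (by rw [tp_self ⟨0, by simp⟩]; simp [one_mem])
  have hFa : F a = 4 := hFA a 1 a 1 (D.le D.a_mem) (one_mem B) ⟨1, by simp⟩ (by
    rw [tp_self ⟨1, by rw [D.a_ord, pow_one]⟩]; simp)
  have hFy : ∀ b ∈ J, ∀ g : G, F (1 * (g * b * g⁻¹)) = 0 := fun b hb g => by
    refine hFB _ g⁻¹ ?_
    rw [one_mul, tp_self ⟨1, by rw [orderOf_conj', (hJ b hb).2, pow_one]⟩]
    simpa [mul_assoc] using (hJ b hb).1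
  have hF2 : ∀ α β, α ∈ A → β ∈ B → orderOf α = 2 → (∃ c, c * α * c⁻¹ = a) →
      orderOf (α * β) = 2 → ∀ b ∈ J, ∀ g : G, F (α * β * (g * b * g⁻¹)) = 4 := by
    intro α β hα hβ hα2 hαa hx b hb g
    obtain ⟨k, α', β', hα', hβ', hc, e⟩ := pair_mixed h D (y := g * b * g⁻¹) (g := g) hα hα2 hαa hβ hx (hJ b hb).1 rfl
      (by rw [orderOf_conj', (hJ b hb).2])
    exact hFA _ k α' β' hα' hβ' hc e
  have hF2B : ∀ b₁ ∈ J, ∀ b₂ ∈ J, ∀ g : G, F (b₁ * (g * b₂ * g⁻¹)) = 0 := fun b₁ h1 b₂ h2 g => by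
    obtain ⟨k, hk⟩ := pair_B h (g := 1) (g' := g) (hJ b₁ h1).1 (hJ b₂ h2).1 (hJ b₁ h1).2 (hJ b₂ h2).2
    exact hFB _ k (by simpa using hk)
  have havg : ∀ (x y : G) (c : ℂ), (∀ g, F (x * (g * y * g⁻¹)) = c) →
      ∑ χ : IrrCharacter G, m χ * (χ : G → ℂ) x * (χ : G → ℂ) y / (χ : G → ℂ) 1 = c := by
    intro x y c hc
    rw [show ∑ χ : IrrCharacter G, m χ * (χ : G → ℂ) x * (χ : G → ℂ) y / (χ : G → ℂ) 1 =
      (Nat.card G : ℂ)⁻¹ * ∑ g : G, F (x * (g * y * g⁻¹)) from (sum_classFun_mul_conj hFcls x y).symm]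
    simp only [hc, Finset.sum_const, Finset.card_univ, ← Nat.card_eq_fintype_card, nsmul_eq_mul]
    field_simp
  have hd1 : ∀ χ : IrrCharacter G, (χ : G → ℂ) 1 ≠ 0 := irr_one_ne_zero
  set N : ℂ := (J.card : ℂ) with hN
  have hN0 : N ≠ 0 := Nat.cast_ne_zero.2 (Finset.card_ne_zero.2 hJne)
  let S : IrrCharacter G → ℂ := fun χ => (∑ b ∈ J, (χ : G → ℂ) b) / (N * (χ : G → ℂ) 1)
  have e0a : ∑ χ : IrrCharacter G, m χ * (χ : G → ℂ) a = 4 := by rw [← hexp a, hFa]
  have e01 : ∑ χ : IrrCharacter G, m χ * (χ : G → ℂ) 1 = 0 := by rw [← hexp 1, hF1]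
  have e1 : ∀ x c, (∀ b ∈ J, ∀ g : G, F (x * (g * b * g⁻¹)) = c) →
      ∑ χ : IrrCharacter G, m χ * (χ : G → ℂ) x * S χ = c := by
    intro x c hc
    have : ∑ χ : IrrCharacter G, m χ * (χ : G → ℂ) x * S χ =
        N⁻¹ * ∑ b ∈ J, ∑ χ : IrrCharacter G,
          m χ * (χ : G → ℂ) x * (χ : G → ℂ) b / (χ : G → ℂ) 1 := by
      rw [Finset.sum_comm, Finset.mul_sum]
      refine Finset.sum_congr rfl fun χ _ => ?_
      simp only [S, div_eq_mul_inv, mul_inv, Finset.sum_mul, Finset.mul_sum]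
      exact Finset.sum_congr rfl fun b _ => by ring
    rw [this, Finset.sum_congr rfl fun b hb => havg x b c (hc b hb), Finset.sum_const,
      nsmul_eq_mul, ← hN, inv_mul_cancel_left₀ hN0]
  have e2a : ∑ χ : IrrCharacter G, m χ * (χ : G → ℂ) a * S χ ^ 2 = 4 := by
    have key : ∀ χ : IrrCharacter G, m χ * (χ : G → ℂ) a * S χ =
        (N * (Nat.card G : ℂ))⁻¹ * ∑ b ∈ J, ∑ g : G, m χ * (χ : G → ℂ) (a * (g * b * g⁻¹)) := by
      intro χ
      simp only [← Finset.mul_sum, Block.sum_mul_conj, S]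
      simp only [mul_div_assoc, div_eq_mul_inv, ← Finset.sum_mul, ← Finset.mul_sum]
      field_simp
    calc ∑ χ : IrrCharacter G, m χ * (χ : G → ℂ) a * S χ ^ 2
        = (N * (Nat.card G : ℂ))⁻¹ * ∑ b ∈ J, ∑ g : G, ∑ χ : IrrCharacter G,
            m χ * (χ : G → ℂ) (a * (g * b * g⁻¹)) * S χ := by
          simp only [pow_two, ← mul_assoc, key, Finset.mul_sum, Finset.sum_mul]
          rw [Finset.sum_comm]
          exact Finset.sum_congr rfl fun b _ => Finset.sum_comm
      _ = (N * (Nat.card G : ℂ))⁻¹ * ∑ b ∈ J, ∑ g : G, (4 : ℂ) := by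
          congr 1
          refine Finset.sum_congr rfl fun b hb => Finset.sum_congr rfl fun g _ => ?_
          obtain ⟨α, β, hα, hβ, hα2, hαa, hx, hv⟩ :=
            pair_value h D hM (g := g) (hJ b hb).1 (hJ b hb).2
          rw [← e1 (α * β) 4 fun b' hb' g' => hF2 α β hα hβ hα2 hαa hx b' hb' g']
          refine Finset.sum_congr rfl fun χ _ => ?_
          by_cases hχ : χ ∈ principalBlock M G
          · rw [hv χ hχ]
          · rw [hout χ hχ]; simp
      _ = 4 := by
          simp only [Finset.sum_const, Finset.card_univ, ← Nat.card_eq_fintype_card, nsmul_eq_mul,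
            ← hN]
          field_simp
  have e21 : ∑ χ : IrrCharacter G, m χ * (χ : G → ℂ) 1 * S χ ^ 2 = 0 := by
    have key : ∀ χ : IrrCharacter G, m χ * (χ : G → ℂ) 1 * S χ =
        N⁻¹ * ∑ b ∈ J, m χ * (χ : G → ℂ) b := by
      intro χ
      simp only [S, ← Finset.mul_sum]
      field_simp [hd1 χ]
    calc ∑ χ : IrrCharacter G, m χ * (χ : G → ℂ) 1 * S χ ^ 2
        = N⁻¹ * ∑ b ∈ J, ∑ χ : IrrCharacter G, m χ * (χ : G → ℂ) b * S χ := by
          simp only [pow_two, ← mul_assoc, key, Finset.mul_sum, Finset.sum_mul]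
          exact Finset.sum_comm
      _ = 0 := by
          rw [Finset.sum_eq_zero fun b hb => e1 b 0 fun b' hb' g => hF2B b hb b' hb' g, mul_zero]
  have e1a := e1 a 4 fun b hb g => by
    have := hF2 a 1 (D.le D.a_mem) (one_mem B) D.a_ord ⟨1, by simp⟩ (by rw [mul_one, D.a_ord]) b hb g
    rwa [mul_one] at this
  have e11 := e1 1 0 hFy
  -- the finite set
  let T : Finset (IrrCharacter G) :=
    (Finset.univ.filter fun χ => m χ ≠ 0).erase (trivialIrr G)
  have hrest : ∀ f : IrrCharacter G → ℂ, (∀ χ, m χ = 0 → f χ = 0) →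
      ∑ χ ∈ T, f χ = (∑ χ : IrrCharacter G, f χ) - f (trivialIrr G) := by
    intro f hf
    rw [← Finset.sum_filter_add_sum_filter_not Finset.univ (fun χ => m χ ≠ 0) f,
      Finset.sum_eq_zero (s := Finset.univ.filter fun χ => ¬ m χ ≠ 0)
        (fun χ hχ => hf χ (not_not.1 (Finset.mem_filter.1 hχ).2)), add_zero,
      ← Finset.add_sum_erase _ _ (Finset.mem_filter.2 ⟨Finset.mem_univ (trivialIrr G),
        by rw [hm1]; exact one_ne_zero⟩)]
    ring
  have hcard : T.card ≤ 3 := by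
    have hsq : ∀ χ, 0 ≤ (m χ * conj (m χ)).re := fun χ => by
      rw [Complex.mul_conj, Complex.ofReal_re]; exact Complex.normSq_nonneg _
    have hge : ∀ χ ∈ T, (1 : ℝ) ≤ (m χ * conj (m χ)).re := fun χ hχ => by
      obtain ⟨n, hn⟩ := hint χ
      have hn0 : n ≠ 0 := fun e => (Finset.mem_filter.1 (Finset.mem_of_mem_erase hχ)).2 (by
        rw [hn, e, Int.cast_zero])
      rw [hn, map_intCast, ← Int.cast_mul, Complex.intCast_re]
      exact_mod_cast Int.one_le_abs hn0 |>.trans (abs_le.2 ⟨by nlinarith, Int.le_self_sq n |>.trans (le_of_eq (sq n))⟩)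
    have h4 := hnorm
    rw [Complex.re_sum] at h4
    have hsub : ∑ χ ∈ insert (trivialIrr G) T, (m χ * conj (m χ)).re ≤ 4 :=
      le_trans (Finset.sum_le_sum_of_subset_of_nonneg (Finset.subset_univ _) fun χ _ _ => hsq χ) h4
    rw [Finset.sum_insert (Finset.notMem_erase _ _), hm1] at hsub
    have h3 : (T.card : ℝ) ≤ ∑ χ ∈ T, (m χ * conj (m χ)).re := by
      refine le_trans (le_of_eq ?_) (Finset.card_nsmul_le_sum T _ 1 hge)
      simp
    have : (T.card : ℝ) ≤ 3 := by
      simp only [map_one, mul_one, Complex.one_re] at hsub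
      linarith
    exact_mod_cast this
  have hS1 : S (trivialIrr G) = 1 := by
    simp only [S, htriv, Finset.sum_const, nsmul_eq_mul, mul_one, ← hN, div_self hN0]
  let t : IrrCharacter G → ℂ := fun χ => m χ * (χ : G → ℂ) a
  let w : IrrCharacter G → ℂ := fun χ => m χ * ((χ : G → ℂ) a + 3 * (χ : G → ℂ) 1)
  obtain ⟨χ, hχT, hχd⟩ := exists_zero_moment T t w (fun χ => S χ - 1) hcard
    (by
      rw [hrest t fun χ hχ => by simp [t, hχ]]
      simp only [t, e0a, hm1, htriv]; norm_num)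
    (by
      rw [hrest _ fun χ hχ => by simp [t, hχ]]
      simp only [t, hS1, sub_self, mul_zero, sub_zero, mul_sub, mul_one, Finset.sum_sub_distrib,
        e1a, e0a])
    (by
      rw [hrest _ fun χ hχ => by simp [t, hχ]]
      have e : ∀ χ : IrrCharacter G, t χ * (S χ - 1) ^ 2 =
          m χ * (χ : G → ℂ) a * S χ ^ 2 - 2 * (m χ * (χ : G → ℂ) a * S χ) +
            m χ * (χ : G → ℂ) a := fun χ => by simp only [t]; ring
      simp only [e, Finset.sum_add_distrib, Finset.sum_sub_distrib, ← Finset.mul_sum, e2a, e1a,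
        e0a, hS1, htriv, hm1]
      ring)
    (by
      rw [hrest w fun χ hχ => by simp [w, hχ]]
      have e : ∀ χ : IrrCharacter G, w χ =
          m χ * (χ : G → ℂ) a + 3 * (m χ * (χ : G → ℂ) 1) := fun χ => by simp only [w]; ring
      simp only [e, Finset.sum_add_distrib, ← Finset.mul_sum, e0a, e01, htriv, hm1]
      ring)
    (by
      rw [hrest _ fun χ hχ => by simp [w, hχ]]
      have e : ∀ χ : IrrCharacter G, w χ * (S χ - 1) =
          (m χ * (χ : G → ℂ) a * S χ - m χ * (χ : G → ℂ) a) +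
            3 * (m χ * (χ : G → ℂ) 1 * S χ - m χ * (χ : G → ℂ) 1) :=
        fun χ => by simp only [w]; ring
      simp only [e, Finset.sum_add_distrib, Finset.sum_sub_distrib, ← Finset.mul_sum, e1a, e11,
        e0a, e01, hS1, htriv, hm1]
      ring)
    (by
      rw [hrest _ fun χ hχ => by simp [w, hχ]]
      have e : ∀ χ : IrrCharacter G, w χ * (S χ - 1) ^ 2 =
          (m χ * (χ : G → ℂ) a * S χ ^ 2 - 2 * (m χ * (χ : G → ℂ) a * S χ) +
              m χ * (χ : G → ℂ) a) +
            3 * (m χ * (χ : G → ℂ) 1 * S χ ^ 2 - 2 * (m χ * (χ : G → ℂ) 1 * S χ) +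
              m χ * (χ : G → ℂ) 1) := fun χ => by simp only [w]; ring
      simp only [e, Finset.sum_add_distrib, Finset.sum_sub_distrib, ← Finset.mul_sum, e2a, e21,
        e1a, e11, e0a, e01, hS1, htriv, hm1]
      ring)
    (fun χ hχ e => by
      rcases mul_eq_zero.1 e with e | e
      · exact (Finset.mem_filter.1 (Finset.mem_of_mem_erase hχ)).2 e
      · have hle := Cfsg.Agent.Char.IsChar.norm_le (irr_isChar χ) a
        rw [eq_neg_of_add_eq_zero_left e, norm_neg, norm_mul, Complex.norm_ofNat] at hle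
        have := norm_pos_iff.2 (hd1 χ)
        linarith)
  refine ⟨χ, (Finset.mem_erase.1 hχT).1, ?_⟩
  have hs : ∑ b ∈ J, (χ : G → ℂ) b = N * (χ : G → ℂ) 1 := by
    have := sub_eq_zero.1 hχd
    simp only [S] at this
    rwa [div_eq_one_iff_eq (mul_ne_zero hN0 (hd1 χ))] at this
  obtain ⟨n, -, hn⟩ := Cfsg.Agent.Char.IsIrr.one_eq_pos χ.2
  have hle : ∀ b ∈ J, ((χ : G → ℂ) b).re ≤ n := fun b _ => by
    have := Cfsg.Agent.Char.IsChar.norm_le (irr_isChar χ) b
    rw [hn, Complex.norm_natCast] at this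
    exact (Complex.re_le_norm _).trans this
  have hre : ∑ b ∈ J, ((χ : G → ℂ) b).re = ∑ _b ∈ J, (n : ℝ) := by
    have := congrArg Complex.re hs
    rw [Complex.re_sum, hn, hN] at this
    simp at this
    simp [this]
  intro b hb
  have hb1 := (Finset.sum_eq_sum_iff_of_le hle).1 hre b hb
  have hb2 := Cfsg.Agent.Char.IsChar.norm_le (irr_isChar χ) b
  rw [hn, Complex.norm_natCast] at hb2
  have hb3 := Complex.re_eq_norm.1 (le_antisymm (Complex.re_le_norm _) (hb1 ▸ hb2))
  rw [hn]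
  exact Complex.ext (by simpa using hb1) (by simpa using hb3.2.symm)

end Cfsg.Agent.ProdFus
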