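import Cfsg.Agent.Lib.Transfer.Product.Hom
import Cfsg.Agent.Lib.Char.Basic
import Cfsg.Agent.Lib.Char.Constituent

/-!
# The virtual character on the centralizer of the central involution

On `C = C(a)` it is `1 + ε - Ind λ`, with `ε` the character of order two trivial on `R B` and `λ`
a linear character of its kernel nontrivial at `a`.
-/

open scoped ComplexConjugate

set_option linter.unusedSectionVars false
set_option linter.style.haveILetI false

namespace Cfsg.Agent.ProdFus

open Cfsg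

universe u

variable {G : Type u} [Group G] [Finite G] {P : Sylow 2 G} {A B R : Subgroup G} {r s a : G}

theorem le_centralizer_a (h : Prod P A B) (D : Dih A R r s a) :
    (P : Subgroup G) ≤ Subgroup.centralizer ({a} : Set G) := fun x hx => by
  obtain ⟨u, hu, v, hv, rfl⟩ := h.split hx
  exact Subgroup.mem_centralizer_singleton_iff.2
    ((D.a_central u hu).mul_left (h.comm a (D.le D.a_mem) v hv).symm).eq

/-- Membership in `R` of the first component is multiplicative. -/
theorem Dih.mul_mem_iff (D : Dih A R r s a) {x y : G} (hx : x ∈ A) (hy : y ∈ A) :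
    x * y ∈ R ↔ (x ∈ R ↔ y ∈ R) := by
  by_cases h1 : x ∈ R <;> by_cases h2 : y ∈ R
  · simp [h1, h2, mul_mem h1 h2]
  · simp [h1, h2, R.mul_mem_cancel_left h1]
  · simp [h1, h2, R.mul_mem_cancel_right h2]
  · have hxs := (D.cases x hx).resolve_left h1
    have hys := (D.cases y hy).resolve_left h2
    have hyy := D.sq_of_not_mem hy h2
    have e : x * y = x * s * (y * s)⁻¹ := by
      rw [mul_inv_rev, inv_eq_of_mul_eq_one_right hyy, inv_eq_of_mul_eq_one_right D.s_sq,
        mul_assoc, ← mul_assoc s s, D.s_sq, one_mul]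
    simp only [h1, h2, iff_true, e]
    exact mul_mem hxs (inv_mem hys)

/-- The sign of the first component. -/
noncomputable def sgn (h : Prod P A B) (D : Dih A R r s a) : ↥(P : Subgroup G) →* ℂˣ where
  toFun x := open Classical in if (h.proj x : G) ∈ R then 1 else -1
  map_one' := by simp
  map_mul' x y := by
    have e : (h.proj (x * y) : G) ∈ R ↔ ((h.proj x : G) ∈ R ↔ (h.proj y : G) ∈ R) := by
      rw [map_mul, Subgroup.coe_mul]
      exact D.mul_mem_iff (h.proj x).2 (h.proj y).2
    classical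
    rw [if_congr e rfl rfl]
    by_cases h1 : (h.proj x : G) ∈ R <;> by_cases h2 : (h.proj y : G) ∈ R <;> simp [h1, h2]

theorem sgn_invariant (h : Prod P A B) (D : Dih A R r s a)
    (x y : ↥(P : Subgroup G)) (c : G) (hca : Commute c a) (hc : c * x * c⁻¹ = y)
    (hC : ∀ u ∈ A, ∀ v ∈ B, ∀ u' ∈ A, ∀ v' ∈ B, (x : G) = u * v → (y : G) = u' * v' →
      ∃ d : G, Commute d a ∧ d * u * d⁻¹ = u') :
    sgn h D x = sgn h D y := by
  obtain ⟨u, hu, v, hv, ex⟩ := h.split x.2
  obtain ⟨u', hu', v', hv', ey⟩ := h.split y.2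
  obtain ⟨d, hd, hdu⟩ := hC u hu v hv u' hu' v' hv' ex ey
  have key : ∀ {u u' d : G}, u' ∈ A → Commute d a → d * u * d⁻¹ = u' → u ∈ R → u' ∈ R := by
    intro u u' d hu' hd hdu hu
    by_cases hu2 : u * u = 1
    · by_cases hu1 : u = 1
      · rw [← hdu, hu1, mul_one, mul_inv_cancel]; exact one_mem R
      · have := D.unique_invol hu D.a_mem (orderOf_eq_prime (by rw [pow_two]; exact hu2) hu1) D.a_ord
        rw [← hdu, this, mul_inv_eq_iff_eq_mul.2 hd.eq]
        exact D.a_mem
    · refine D.mem_of_sq_ne hu' fun e => hu2 ?_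
      have : d * (u * u) * d⁻¹ = 1 := by rw [← e, ← hdu]; group
      exact conj_eq_one_iff.1 this
  have e : u ∈ R ↔ u' ∈ R := ⟨key hu' hd hdu, key hu hd.inv_left (by rw [← hdu]; group)⟩
  have e1 := h.proj_eq hu hv ex
  have e2 := h.proj_eq hu' hv' ey
  simp only [sgn, MonoidHom.coe_mk, OneHom.coe_mk, e1, e2]
  classical
  exact if_congr (by rw [e1, e2]; exact e) rfl rfl

/-- Elements of `R` of the same order generate the same subgroup. -/
theorem Dih.mem_zpowers (D : Dih A R r s a) {x y : G} (hx : x ∈ R) (hy : y ∈ R)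
    (ho : orderOf y ∣ orderOf x) : y ∈ Subgroup.zpowers x := by
  classical
  haveI : IsCyclic R := by rw [D.gen]; exact inferInstance
  cases nonempty_fintype R
  cases nonempty_fintype (Subgroup.zpowers x)
  have e := IsCyclic.card_pow_eq_one_le (α := R) (n := orderOf x) (orderOf_pos x)
  by_contra hne
  set inc : Subgroup.zpowers x → R := fun w => ⟨w, (Subgroup.zpowers_le.2 hx) w.2⟩ with hinc
  have hinj : Function.Injective inc := fun w w' hw =>
    Subtype.ext (congrArg (fun q : R => (q : G)) hw :)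
  have hnot : (⟨y, hy⟩ : R) ∉ Finset.univ.image inc := fun hm => by
    obtain ⟨w, -, hw⟩ := Finset.mem_image.1 hm
    have hwy : (w : G) = y := congrArg (fun q : R => (q : G)) hw
    rw [← hwy] at hne
    exact hne w.2
  have hsub : insert (⟨y, hy⟩ : R) (Finset.univ.image inc) ⊆
      Finset.univ.filter (fun w : R => w ^ orderOf x = 1) := by
    intro w hw
    refine Finset.mem_filter.2 ⟨Finset.mem_univ _, Subtype.ext ?_⟩
    rw [SubgroupClass.coe_pow, OneMemClass.coe_one]
    rcases Finset.mem_insert.1 hw with rfl | hw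
    · exact orderOf_dvd_iff_pow_eq_one.1 ho
    · obtain ⟨⟨q, hq⟩, -, rfl⟩ := Finset.mem_image.1 hw
      obtain ⟨i, rfl⟩ := Subgroup.mem_zpowers_iff.1 hq
      show (x ^ i) ^ orderOf x = 1
      rw [← zpow_natCast, ← zpow_mul, mul_comm, zpow_mul, zpow_natCast, pow_orderOf_eq_one, one_zpow]
  have := (Finset.card_le_card hsub).trans e
  rw [Finset.card_insert_of_notMem hnot, Finset.card_image_of_injective _ hinj, Finset.card_univ,
    ← Nat.card_eq_fintype_card, Nat.card_zpowers] at this
  omega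

/-- A faithful linear character of `R`. -/
theorem Dih.exists_faithful (D : Dih A R r s a) :
    ∃ φ : R →* ℂˣ, φ ⟨a, D.a_mem⟩ = -1 := by
  have hN : orderOf r ≠ 0 := (orderOf_pos r).ne'
  have hω := Complex.isPrimitiveRoot_exp (orderOf r) hN
  have hrR : r ∈ R := by rw [D.gen]; exact Subgroup.mem_zpowers r
  set w : ℂˣ := hω.isUnit hN |>.unit with hw
  have hwp : IsPrimitiveRoot w (orderOf r) := hω.isUnit_unit hN
  have hg : ∀ x : R, x ∈ Subgroup.zpowers (⟨r, hrR⟩ : R) := fun x => by
    obtain ⟨i, hi⟩ := Subgroup.mem_zpowers_iff.1 ((le_of_eq D.gen) x.2)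
    exact Subgroup.mem_zpowers_iff.2 ⟨i, Subtype.ext (by simpa using hi)⟩
  have hd : orderOf w ∣ orderOf (⟨r, hrR⟩ : R) := by
    rw [Subgroup.orderOf_mk, ← hwp.eq_orderOf]
  refine ⟨monoidHomOfForallMemZpowers hg hd, ?_⟩
  set φ := monoidHomOfForallMemZpowers hg hd
  have h2 : φ ⟨a, D.a_mem⟩ ^ 2 = 1 := by
    rw [← map_pow, show (⟨a, D.a_mem⟩ : R) ^ 2 = 1 from Subtype.ext (by
      rw [SubgroupClass.coe_pow, ← D.a_ord]; exact pow_orderOf_eq_one a), map_one]
  have h1 : φ ⟨a, D.a_mem⟩ ≠ 1 := by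
    obtain ⟨i, hi⟩ := Subgroup.mem_zpowers_iff.1 (hg ⟨a, D.a_mem⟩)
    rw [← hi, map_zpow, monoidHomOfForallMemZpowers_apply_gen]
    intro e
    have hdiv : (orderOf r : ℤ) ∣ i := hwp.zpow_eq_one_iff_dvd i |>.1 e
    have : a = 1 := by
      have hi' : r ^ i = a := by simpa using congrArg Subtype.val hi
      rw [← hi']
      exact orderOf_dvd_iff_zpow_eq_one.1 hdiv
    exact Invol.ne_one_of_orderOf_two D.a_ord this
  have h3 : ((φ ⟨a, D.a_mem⟩ : ℂˣ) : ℂ) ^ 2 = 1 := by rw [← Units.val_pow_eq_pow_val, h2]; rfl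
  rcases sq_eq_one_iff.1 h3 with h | h
  · exact absurd (Units.ext h) h1
  · exact Units.ext (by simpa using h)

end Cfsg.Agent.ProdFus
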